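import Cfsg.Agent.Lib.J3.Bits
import Cfsg.Agent.Lib.Golay.Bsgs
import Cfsg.Prelude.Def_Spor_J3

/-!
Packed matrices as elements of the unitary group over a field with four elements, and their
action on matrices by conjugation and by left multiplication.
-/

set_option autoImplicit false

namespace CfsgLib.J3

open Cfsg.Spor Matrix
open scoped MatrixGroups

/-- The hypotheses on the field: a primitive cube root of unity in characteristic two. -/
structure Fld (F : Type*) [Field F] where
  /-- The cube root of unity. -/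
  ω : F
  two : (2 : F) = 0
  root : ω ^ 2 + ω + 1 = 0
  elems : ∀ x : F, x = 0 ∨ x = 1 ∨ x = ω ∨ x = 1 + ω

variable {F : Type*} [Field F]

/-- The field hypotheses from the cardinality. -/
theorem exists_fld [Fintype F] (hF : Fintype.card F = 4) (ω : F) (hω : ω ^ 2 + ω + 1 = 0) :
    ∃ K : Fld F, K.ω = ω := by
  have h2 : (2 : F) = 0 := by
    have h : ((Fintype.card F : ℕ) : F) = 0 := Nat.cast_card_eq_zero F
    rw [hF] at h
    have : (2 : F) * 2 = 0 := by rw [← h]; norm_num
    exact mul_self_eq_zero.1 this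
  refine ⟨⟨ω, h2, hω, fun x => ?_⟩, rfl⟩
  by_cases hx : x = 0
  · exact Or.inl hx
  have h3 : x ^ 3 = 1 := by
    have := FiniteField.pow_card_sub_one_eq_one x hx
    rwa [hF] at this
  have hp : (x - 1) * ((x - ω) * (x - (1 + ω))) = 0 := by
    linear_combination h3 + (x - 1) * (-(1 + ω) * x - 1) * h2 + (x - 1) * hω
  rcases mul_eq_zero.1 hp with h | h
  · exact Or.inr (Or.inl (sub_eq_zero.1 h))
  rcases mul_eq_zero.1 h with h | h
  · exact Or.inr (Or.inr (Or.inl (sub_eq_zero.1 h)))
  · exact Or.inr (Or.inr (Or.inr (sub_eq_zero.1 h)))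

/-- The number of an index. -/
def ix (z : F9) : ℕ := 3 * z.1.val + z.2.val

theorem ix_lt : ∀ z : F9, ix z < 9 := by decide +kernel

/-- The numbering of the indices. -/
def e9 : F9 ≃ Fin 9 where
  toFun z := ⟨ix z, ix_lt z⟩
  invFun k := ((k.val / 3 : ℕ), (k.val % 3 : ℕ))
  left_inv := by decide +kernel
  right_inv := by decide +kernel

variable (K : Fld F)

/-- The value of two bits. -/
def val2 (a b : Bool) : F := (if a then 1 else 0) + (if b then K.ω else 0)

theorem root' : K.ω * K.ω = 1 + K.ω := by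
  linear_combination K.root - (1 + K.ω) * K.two

theorem val2_add (a b c d : Bool) : val2 K a b + val2 K c d = val2 K (xor a c) (xor b d) := by
  cases a <;> cases b <;> cases c <;> cases d <;> simp [val2] <;> grind [K.two]

theorem val2_mul (a b c d : Bool) : val2 K a b * val2 K c d =
    val2 K (xor (a && c) (b && d)) (xor (a && d) (b && xor c d)) := by
  have := root' K
  cases a <;> cases b <;> cases c <;> cases d <;> simp [val2] <;> grind [K.two]

theorem omega_ne_zero : K.ω ≠ 0 := fun h => by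
  have := K.root
  rw [h] at this
  simp at this

theorem omega_ne_one : K.ω ≠ 1 := fun h => by
  have := root' K
  rw [h, one_mul] at this
  exact one_ne_zero (show (1 : F) = 0 by linear_combination -this)

theorem val2_inj {a b c d : Bool} (h : val2 K a b = val2 K c d) : a = c ∧ b = d := by
  have h0 := omega_ne_zero K
  have h1 := omega_ne_one K
  have h3 : (1 : F) + K.ω ≠ 0 := fun h => h1 (by linear_combination h - K.two)
  cases a <;> cases b <;> cases c <;> cases d <;> simp [val2] at h ⊢ <;> grind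

/-- The squaring homomorphism. -/
def sq : F →+* F where
  toFun x := x * x
  map_one' := one_mul 1
  map_mul' x y := by ring
  map_zero' := zero_mul 0
  map_add' x y := by linear_combination (x * y) * K.two

theorem sq_val2 (a b : Bool) : sq K (val2 K a b) = val2 K (xor a b) b := by
  show val2 K a b * val2 K a b = _
  rw [val2_mul]
  cases a <;> cases b <;> rfl

/-- The matrix of a code. -/
def toMat (A : ℕ) : Matrix F9 F9 F :=
  fun i j => val2 K (A.testBit (9 * ix i + ix j)) (A.testBit (81 + (9 * ix i + ix j)))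

/-- The conjugate transpose. -/
def conjT (M : Matrix F9 F9 F) : Matrix F9 F9 F := (M.map (sq K))ᵀ

theorem conjT_mul (M N : Matrix F9 F9 F) : conjT K (M * N) = conjT K N * conjT K M := by
  rw [conjT, Matrix.map_mul, transpose_mul]
  rfl

theorem toMat_mulM (A B : ℕ) : toMat K (mulM A B) = toMat K A * toMat K B := by
  ext i j
  have hi := ix_lt i
  have hj := ix_lt j
  rw [Matrix.mul_apply, ← Equiv.sum_comp e9.symm]
  have e : ∀ k : Fin 9, ix (e9.symm k) = k.val := fun k => by
    have := congrArg Fin.val (e9.apply_symm_apply k)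
    exact this
  simp only [toMat, e, val2_mul, Fin.sum_univ_succ, Fin.sum_univ_zero, add_zero, val2_add]
  have hlt : ∀ a0 a1 b0 b1, term0 a0 a1 b0 b1 0 ^^^ term0 a0 a1 b0 b1 1 ^^^ term0 a0 a1 b0 b1 2 ^^^
      term0 a0 a1 b0 b1 3 ^^^ term0 a0 a1 b0 b1 4 ^^^ term0 a0 a1 b0 b1 5 ^^^ term0 a0 a1 b0 b1 6 ^^^
      term0 a0 a1 b0 b1 7 ^^^ term0 a0 a1 b0 b1 8 < 2 ^ 81 := fun a0 a1 b0 b1 => by
    repeat' first
      | exact term0_lt _ _ _ _ _
      | apply Nat.xor_lt_two_pow
  simp only [mulM, mulAux, mk_testBit_low (hlt _ _ _ _) _ (show 9 * ix i + ix j < 81 by omega),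
    mk_testBit_high (hlt _ _ _ _), Nat.testBit_xor, term0_testBit _ _ _ _ _ hi hj,
    term1_testBit _ _ _ _ _ hi hj, p1_testBit]
  have hp : ∀ a b : ℕ, a < 9 → b < 9 → ∀ C, (p0 C).testBit (9 * a + b) = C.testBit (9 * a + b) :=
    fun a b ha hb C => p0_testBit C (by omega)
  simp only [hp _ _ hi (show (0 : ℕ) < 9 by norm_num), hp _ _ hi (show (1 : ℕ) < 9 by norm_num),
    hp _ _ hi (show (2 : ℕ) < 9 by norm_num), hp _ _ hi (show (3 : ℕ) < 9 by norm_num),
    hp _ _ hi (show (4 : ℕ) < 9 by norm_num), hp _ _ hi (show (5 : ℕ) < 9 by norm_num),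
    hp _ _ hi (show (6 : ℕ) < 9 by norm_num), hp _ _ hi (show (7 : ℕ) < 9 by norm_num),
    hp _ _ hi (show (8 : ℕ) < 9 by norm_num), hp _ _ (show (0 : ℕ) < 9 by norm_num) hj,
    hp _ _ (show (1 : ℕ) < 9 by norm_num) hj, hp _ _ (show (2 : ℕ) < 9 by norm_num) hj,
    hp _ _ (show (3 : ℕ) < 9 by norm_num) hj, hp _ _ (show (4 : ℕ) < 9 by norm_num) hj,
    hp _ _ (show (5 : ℕ) < 9 by norm_num) hj, hp _ _ (show (6 : ℕ) < 9 by norm_num) hj,
    hp _ _ (show (7 : ℕ) < 9 by norm_num) hj, hp _ _ (show (8 : ℕ) < 9 by norm_num) hj]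
  congr 1 <;> simp [Bool.xor_assoc, Fin.val_succ, Nat.add_assoc]

theorem toMat_ctM (A : ℕ) : toMat K (ctM A) = conjT K (toMat K A) := by
  ext i j
  have hi := ix_lt i
  have hj := ix_lt j
  simp only [conjT, transpose_apply, map_apply, toMat, sq_val2, ctM]
  rw [mk_testBit_low (trP_lt _) _ (by omega), mk_testBit_high (trP_lt _), trP_testBit _ hi hj,
    trP_testBit _ hi hj, Nat.testBit_xor, p0_testBit _ (by omega), p1_testBit]

theorem toMat_inj {A B : ℕ} (hA : A < 2 ^ 162) (hB : B < 2 ^ 162) (h : toMat K A = toMat K B) :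
    A = B := by
  have key : ∀ i < 9, ∀ j < 9, A.testBit (9 * i + j) = B.testBit (9 * i + j) ∧
      A.testBit (81 + (9 * i + j)) = B.testBit (81 + (9 * i + j)) := by
    intro i hi j hj
    have e : ∀ k (hk : k < 9), ix (e9.symm ⟨k, hk⟩) = k := fun k hk =>
      congrArg Fin.val (e9.apply_symm_apply ⟨k, hk⟩)
    have := congrFun (congrFun h (e9.symm ⟨i, hi⟩)) (e9.symm ⟨j, hj⟩)
    simp only [toMat, e] at this
    exact val2_inj K this
  exact code_ext hA hB (fun i hi j hj => (key i hi j hj).1) (fun i hi j hj => (key i hi j hj).2)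

theorem toMat_oneM : toMat K oneM = 1 := by
  ext i j
  obtain ⟨h0, h1⟩ := oneM_testBit (e9 i) (e9 j)
  simp only [toMat, show (e9 i).val = ix i from rfl, show (e9 j).val = ix j from rfl] at h0 h1 ⊢
  rw [h0, h1]
  by_cases h : i = j
  · subst h; simp [val2]
  · simp [val2, h, e9.injective.ne h, Matrix.one_apply_ne h]

/-- Validity: in range and unitary. -/
def okM (A : ℕ) : Bool :=
  A.blt 5846006549323611672814739330865132078623730171904 && (mulM A (ctM A)).beq oneM

theorem two162 : (5846006549323611672814739330865132078623730171904 : ℕ) = 2 ^ 162 := by norm_num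

theorem ok_spec {A : ℕ} (h : okM A = true) :
    A < 2 ^ 162 ∧ toMat K A * conjT K (toMat K A) = 1 := by
  simp only [okM, Bool.and_eq_true, Nat.blt_eq, Nat.beq_eq, two162] at h
  refine ⟨h.1, ?_⟩
  rw [← toMat_ctM, ← toMat_mulM, h.2, toMat_oneM]

theorem oneM_lt : oneM < 2 ^ 162 := by
  rw [← two162]
  decide +kernel

theorem ok_oneM : okM oneM = true := by decide +kernel

/-- The group element of a code. -/
def val (A : ℕ) : GL F9 F :=
  if h : okM A = true then
    ⟨toMat K A, conjT K (toMat K A), (ok_spec K h).2, mul_eq_one_comm.1 (ok_spec K h).2⟩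
  else 1

theorem val_coe {A : ℕ} (h : okM A = true) : (val K A : Matrix F9 F9 F) = toMat K A := by
  rw [val, dif_pos h]

theorem val_inv {A : ℕ} (h : okM A = true) :
    ((val K A)⁻¹ : GL F9 F).val = toMat K (ctM A) := by
  rw [val, dif_pos h, toMat_ctM]
  rfl

theorem ok_mulM {A B : ℕ} (hA : okM A = true) (hB : okM B = true) (K : Fld F) :
    okM (mulM A B) = true := by
  obtain ⟨-, hA'⟩ := ok_spec K hA
  obtain ⟨-, hB'⟩ := ok_spec K hB
  simp only [okM, Bool.and_eq_true, Nat.blt_eq, Nat.beq_eq, two162]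
  refine ⟨mulM_lt A B, toMat_inj K (mulM_lt _ _) oneM_lt ?_⟩
  rw [toMat_mulM, toMat_ctM, toMat_mulM, conjT_mul, Matrix.mul_assoc,
    ← Matrix.mul_assoc (toMat K B), hB', Matrix.one_mul, hA', toMat_oneM]

theorem val_mulM {A B : ℕ} (hA : okM A = true) (hB : okM B = true) :
    val K (mulM A B) = val K A * val K B :=
  Units.ext (by rw [Units.val_mul, val_coe K (ok_mulM hA hB K), val_coe K hA, val_coe K hB,
    toMat_mulM])

theorem val_oneM : val K oneM = 1 :=
  Units.ext (by rw [val_coe K ok_oneM, toMat_oneM]; rfl)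

/-- A matrix on which the group acts by conjugation. -/
structure Cj (F : Type*) [Field F] where
  /-- The matrix. -/
  m : Matrix F9 F9 F

instance : MulAction (GL F9 F) (Cj F) where
  smul g x := ⟨g.val * x.m * (g⁻¹ : GL F9 F).val⟩
  one_smul x := by
    show Cj.mk _ = x
    simp
  mul_smul g h x := by
    show (⟨_⟩ : Cj F) = ⟨g.val * (h.val * x.m * (h⁻¹ : GL F9 F).val) * (g⁻¹ : GL F9 F).val⟩
    simp [mul_assoc]

theorem smul_cj (g : GL F9 F) (x : Cj F) : g • x = ⟨g.val * x.m * (g⁻¹ : GL F9 F).val⟩ := rfl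

/-- The point of a code. -/
def ptC (p : ℕ) : Cj F ⊕ Matrix F9 F9 F :=
  if p % 2 = 0 then Sum.inl ⟨toMat K (p / 2)⟩ else Sum.inr (toMat K (p / 2))

/-- The image of a point code. -/
def imgC (A p : ℕ) : ℕ :=
  if p % 2 = 0 then 2 * mulM (mulM A (p / 2)) (ctM A) else 2 * mulM A (p / 2) + 1

/-- Valid point codes. -/
def ptOkC (p : ℕ) : Bool := (p / 2).blt 5846006549323611672814739330865132078623730171904

/-- The coded group. -/
def ops : Golay.Bsgs.Ops (GL F9 F) (Cj F ⊕ Matrix F9 F9 F) where
  val := val K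
  ok := okM
  one := oneM
  mul := mulM
  pt := ptC K
  ptOk := ptOkC
  img := imgC
  ok_one := ok_oneM
  val_one := val_oneM K
  ok_mul _ _ hA hB := ok_mulM hA hB K
  val_mul _ _ hA hB := val_mulM K hA hB
  pt_img A p hA _ := by
    simp only [ptOkC, Nat.blt_eq, two162]
    by_cases hp : p % 2 = 0
    · have e1 : 2 * mulM (mulM A (p / 2)) (ctM A) % 2 = 0 := by omega
      have e2 : 2 * mulM (mulM A (p / 2)) (ctM A) / 2 = mulM (mulM A (p / 2)) (ctM A) := by omega
      rw [imgC, if_pos hp, ptC, if_pos hp, ptC, if_pos e1, e2]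
      refine ⟨?_, mulM_lt _ _⟩
      show Sum.inl (val K A • (⟨toMat K (p / 2)⟩ : Cj F)) = _
      rw [smul_cj, val_coe K hA, val_inv K hA, toMat_mulM, toMat_mulM]
    · have e1 : ¬ (2 * mulM A (p / 2) + 1) % 2 = 0 := by omega
      have e2 : (2 * mulM A (p / 2) + 1) / 2 = mulM A (p / 2) := by omega
      rw [imgC, if_neg hp, ptC, if_neg hp, ptC, if_neg e1, e2]
      refine ⟨?_, mulM_lt _ _⟩
      show Sum.inr (val K A • toMat K (p / 2)) = _
      rw [Units.smul_def, smul_eq_mul, val_coe K hA, toMat_mulM]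
  pt_inj p q hp hq h := by
    simp only [ptOkC, Nat.blt_eq, two162] at hp hq
    simp only [ptC] at h
    split_ifs at h with h1 h2 h2
    · have := toMat_inj K hp hq (congrArg Cj.m (Sum.inl.inj h))
      omega
    · have := toMat_inj K hp hq (Sum.inr.inj h)
      omega

/-- The check does not depend on the field. -/
theorem check_congr {F' : Type*} [Field F'] (K' : Fld F') : ∀ (fixed : List ℕ)
    (ls : List Golay.Bsgs.Lvl),
    Golay.Bsgs.check (ops K) fixed ls = Golay.Bsgs.check (ops K') fixed ls := by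
  have hp : ∀ (ls : List Golay.Bsgs.Lvl) (is : List ℕ),
      Golay.Bsgs.prodReps (ops K) ls is = Golay.Bsgs.prodReps (ops K') ls is := by
    intro ls
    induction ls with
    | nil => intro is; rfl
    | cons l ls ih =>
      intro is
      cases is with
      | nil => rfl
      | cons i is => show mulM _ _ = mulM _ _; rw [ih is]; rfl
  intro fixed ls
  induction ls generalizing fixed with
  | nil => rfl
  | cons l ls ih =>
    simp only [Golay.Bsgs.check, hp, ih]
    rfl

end CfsgLib.J3
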