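import Mathlib

/-!
9 × 9 matrices over the field of four elements as two bit planes packed in a natural number.
-/

set_option autoImplicit false

namespace CfsgLib.J3

/-- The lower plane. -/
def p0 (A : ℕ) : ℕ := A % 2417851639229258349412352

/-- The upper plane. -/
def p1 (A : ℕ) : ℕ := A >>> 81

/-- Packing two planes. -/
def mk (a b : ℕ) : ℕ := a + 2417851639229258349412352 * b

/-- Nine slots of nine bits. -/
def pack9 (x : ℕ → ℕ) : ℕ :=
  x 0 + 512 * (x 1 + 512 * (x 2 + 512 * (x 3 + 512 * (x 4 + 512 * (x 5 + 512 * (x 6 + 512 *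
    (x 7 + 512 * x 8)))))))

/-- Nine bits. -/
def packBits (x : ℕ → Bool) : ℕ :=
  (x 0).toNat + 2 * ((x 1).toNat + 2 * ((x 2).toNat + 2 * ((x 3).toNat + 2 * ((x 4).toNat + 2 *
    ((x 5).toNat + 2 * ((x 6).toNat + 2 * ((x 7).toNat + 2 * (x 8).toNat)))))))

/-- The mask of the first bit of each slot. -/
def cmask : ℕ := pack9 fun _ => 1

/-- Column `k` of a plane, moved to the first column. -/
def colP (P k : ℕ) : ℕ := (P >>> k) &&& cmask

/-- Row `k` of a plane. -/
def rowP (P k : ℕ) : ℕ := (P >>> (9 * k)) % 512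

/-- The contribution of the middle index `k` to the lower plane. -/
def term0 (a0 a1 b0 b1 k : ℕ) : ℕ := (colP a0 k * rowP b0 k) ^^^ (colP a1 k * rowP b1 k)

/-- The contribution of the middle index `k` to the upper plane. -/
def term1 (a0 a1 b0 b1 k : ℕ) : ℕ :=
  (colP a0 k * rowP b1 k) ^^^ (colP a1 k * (rowP b0 k ^^^ rowP b1 k))

/-- The packed product. -/
def mulAux (a0 a1 b0 b1 : ℕ) : ℕ :=
  mk (term0 a0 a1 b0 b1 0 ^^^ term0 a0 a1 b0 b1 1 ^^^ term0 a0 a1 b0 b1 2 ^^^ term0 a0 a1 b0 b1 3 ^^^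
      term0 a0 a1 b0 b1 4 ^^^ term0 a0 a1 b0 b1 5 ^^^ term0 a0 a1 b0 b1 6 ^^^ term0 a0 a1 b0 b1 7 ^^^
      term0 a0 a1 b0 b1 8)
    (term1 a0 a1 b0 b1 0 ^^^ term1 a0 a1 b0 b1 1 ^^^ term1 a0 a1 b0 b1 2 ^^^ term1 a0 a1 b0 b1 3 ^^^
      term1 a0 a1 b0 b1 4 ^^^ term1 a0 a1 b0 b1 5 ^^^ term1 a0 a1 b0 b1 6 ^^^ term1 a0 a1 b0 b1 7 ^^^
      term1 a0 a1 b0 b1 8)

/-- The packed product of two codes. -/
def mulM (A B : ℕ) : ℕ := mulAux (p0 A) (p1 A) (p0 B) (p1 B)

/-- The transposed plane. -/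
def trP (P : ℕ) : ℕ := pack9 fun i => packBits fun j => P.testBit (9 * j + i)

/-- The packed conjugate transpose. -/
def ctM (A : ℕ) : ℕ := mk (trP (p0 A ^^^ p1 A)) (trP (p1 A))

/-- The packed identity. -/
def oneM : ℕ := pack9 fun i => 2 ^ i

theorem two81 : (2417851639229258349412352 : ℕ) = 2 ^ 81 := by norm_num

theorem p0_lt (A : ℕ) : p0 A < 2 ^ 81 := by rw [p0, two81]; exact Nat.mod_lt _ (Nat.two_pow_pos _)

theorem p0_testBit (A : ℕ) {i : ℕ} (hi : i < 81) : (p0 A).testBit i = A.testBit i := by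
  rw [p0, two81, Nat.testBit_mod_two_pow]
  simp [hi]

theorem p1_testBit (A i : ℕ) : (p1 A).testBit i = A.testBit (81 + i) := by
  rw [p1, Nat.testBit_shiftRight]

theorem mk_testBit_low {a : ℕ} (ha : a < 2 ^ 81) (b : ℕ) {i : ℕ} (hi : i < 81) :
    (mk a b).testBit i = a.testBit i := by
  rw [mk, two81, Nat.add_comm, Nat.testBit_two_pow_mul_add _ ha, if_pos hi]

theorem mk_testBit_high {a : ℕ} (ha : a < 2 ^ 81) (b i : ℕ) :
    (mk a b).testBit (81 + i) = b.testBit i := by
  rw [mk, two81, Nat.add_comm (a : ℕ), Nat.testBit_two_pow_mul_add _ ha, if_neg (by omega),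
    Nat.add_sub_cancel_left]

theorem mk_lt {a b : ℕ} (ha : a < 2 ^ 81) (hb : b < 2 ^ 81) : mk a b < 2 ^ 162 := by
  rw [mk, two81]
  have : 2 ^ 81 * (b + 1) ≤ 2 ^ 81 * 2 ^ 81 := Nat.mul_le_mul_left _ hb
  rw [← pow_add] at this
  rw [Nat.mul_add, Nat.mul_one] at this
  omega

theorem pack9_lt {x : ℕ → ℕ} (h : ∀ i < 9, x i < 512) : pack9 x < 2 ^ 81 := by
  have := h 0 (by omega); have := h 1 (by omega); have := h 2 (by omega); have := h 3 (by omega)
  have := h 4 (by omega); have := h 5 (by omega); have := h 6 (by omega); have := h 7 (by omega)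
  have := h 8 (by omega)
  simp only [pack9]
  omega

theorem pack9_testBit {x : ℕ → ℕ} (h : ∀ i < 9, x i < 512) {i j : ℕ} (hi : i < 9) (hj : j < 9) :
    (pack9 x).testBit (9 * i + j) = (x i).testBit j := by
  have key : ∀ s r m : ℕ, s < 512 →
      (s + 512 * r).testBit m = if m < 9 then s.testBit m else r.testBit (m - 9) := by
    intro s r m hs
    rw [Nat.add_comm, show (512 : ℕ) = 2 ^ 9 by norm_num, Nat.testBit_two_pow_mul_add _ (by simpa using hs)]
  simp only [pack9]
  interval_cases i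
  · rw [key _ _ _ (h 0 (by omega)), if_pos (by omega)]; simp
  all_goals
    rw [key _ _ _ (h 0 (by omega)), if_neg (by omega)]
    repeat' first
      | rw [key _ _ _ (h 1 (by omega))]
      | rw [key _ _ _ (h 2 (by omega))]
      | rw [key _ _ _ (h 3 (by omega))]
      | rw [key _ _ _ (h 4 (by omega))]
      | rw [key _ _ _ (h 5 (by omega))]
      | rw [key _ _ _ (h 6 (by omega))]
      | rw [key _ _ _ (h 7 (by omega))]
      | rw [if_pos (by omega)]
      | rw [if_neg (by omega)]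
    congr 1
    omega

theorem packBits_lt (x : ℕ → Bool) : packBits x < 512 := by
  simp only [packBits]
  have := Bool.toNat_le (x 0); have := Bool.toNat_le (x 1); have := Bool.toNat_le (x 2)
  have := Bool.toNat_le (x 3); have := Bool.toNat_le (x 4); have := Bool.toNat_le (x 5)
  have := Bool.toNat_le (x 6); have := Bool.toNat_le (x 7); have := Bool.toNat_le (x 8)
  omega

theorem packBits_testBit (x : ℕ → Bool) {j : ℕ} (hj : j < 9) : (packBits x).testBit j = x j := by
  have key : ∀ (b : Bool) (r m : ℕ),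
      (b.toNat + 2 * r).testBit m = if m < 1 then b else r.testBit (m - 1) := by
    intro b r m
    rw [Nat.add_comm, show (2 : ℕ) = 2 ^ 1 by norm_num,
      Nat.testBit_two_pow_mul_add _ (by cases b <;> simp)]
    split_ifs with hm
    · obtain rfl : m = 0 := by omega
      cases b <;> simp
    · rfl
  simp only [packBits]
  interval_cases j <;> simp [key] <;> (cases x 8 <;> simp)

theorem cmask_testBit : ∀ m : Fin 81, cmask.testBit m.val = decide (m.val % 9 = 0) := by
  decide +kernel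

theorem cmask_lt : cmask < 2 ^ 81 := pack9_lt fun _ _ => by norm_num

theorem colP_eq (P k : ℕ) : colP P k = pack9 fun i => (P.testBit (9 * i + k)).toNat := by
  have hb : ∀ i < 9, (P.testBit (9 * i + k)).toNat < 512 := fun i _ => by
    cases P.testBit (9 * i + k) <;> simp
  refine Nat.eq_of_testBit_eq fun m => ?_
  rw [colP, Nat.testBit_and, Nat.testBit_shiftRight]
  by_cases hm : m < 81
  · rw [cmask_testBit ⟨m, hm⟩]
    conv_rhs => rw [← Nat.div_add_mod m 9]
    rw [pack9_testBit hb (by omega) (Nat.mod_lt _ (by norm_num))]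
    by_cases h0 : m % 9 = 0
    · have e : k + m = 9 * (m / 9) + k := by omega
      simp only [h0, decide_true, Bool.and_true, e]
      cases P.testBit (9 * (m / 9) + k) <;> simp
    · simp only [h0, decide_false, Bool.and_false]
      rw [Nat.testBit_lt_two_pow]
      exact lt_of_le_of_lt (Bool.toNat_le _) (Nat.one_lt_two_pow h0)
  · rw [Nat.testBit_lt_two_pow (lt_of_lt_of_le cmask_lt (Nat.pow_le_pow_right (by norm_num) (by omega))),
      Bool.and_false,
      Nat.testBit_lt_two_pow (lt_of_lt_of_le (pack9_lt hb) (Nat.pow_le_pow_right (by norm_num) (by omega)))]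

theorem rowP_lt (P k : ℕ) : rowP P k < 512 := Nat.mod_lt _ (by norm_num)

theorem rowP_testBit (P k : ℕ) {j : ℕ} (hj : j < 9) :
    (rowP P k).testBit j = P.testBit (9 * k + j) := by
  rw [rowP, show (512 : ℕ) = 2 ^ 9 by norm_num, Nat.testBit_mod_two_pow, Nat.testBit_shiftRight]
  simp [hj]

theorem outer_eq (P k r : ℕ) :
    colP P k * r = pack9 fun i => (P.testBit (9 * i + k)).toNat * r := by
  rw [colP_eq]
  simp only [pack9]
  ring

theorem outer_lt (P k : ℕ) {r : ℕ} (hr : r < 512) : colP P k * r < 2 ^ 81 := by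
  rw [outer_eq]
  refine pack9_lt fun i _ => ?_
  cases P.testBit (9 * i + k) <;> simp [hr]

theorem outer_testBit (P k : ℕ) {r i j : ℕ} (hr : r < 512) (hi : i < 9) (hj : j < 9) :
    (colP P k * r).testBit (9 * i + j) = (P.testBit (9 * i + k) && r.testBit j) := by
  rw [outer_eq, pack9_testBit (fun l _ => by cases P.testBit (9 * l + k) <;> simp [hr]) hi hj]
  cases P.testBit (9 * i + k) <;> simp

theorem term0_lt (a0 a1 b0 b1 k : ℕ) : term0 a0 a1 b0 b1 k < 2 ^ 81 :=
  Nat.xor_lt_two_pow (outer_lt _ _ (rowP_lt _ _)) (outer_lt _ _ (rowP_lt _ _))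

theorem xor_row_lt (b0 b1 k : ℕ) : rowP b0 k ^^^ rowP b1 k < 512 :=
  Nat.xor_lt_two_pow (n := 9) (rowP_lt _ _) (rowP_lt _ _)

theorem term1_lt (a0 a1 b0 b1 k : ℕ) : term1 a0 a1 b0 b1 k < 2 ^ 81 :=
  Nat.xor_lt_two_pow (outer_lt _ _ (rowP_lt _ _)) (outer_lt _ _ (xor_row_lt _ _ _))

theorem term0_testBit (a0 a1 b0 b1 k : ℕ) {i j : ℕ} (hi : i < 9) (hj : j < 9) :
    (term0 a0 a1 b0 b1 k).testBit (9 * i + j) =
      xor (a0.testBit (9 * i + k) && b0.testBit (9 * k + j))
        (a1.testBit (9 * i + k) && b1.testBit (9 * k + j)) := by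
  rw [term0, Nat.testBit_xor, outer_testBit _ _ (rowP_lt _ _) hi hj,
    outer_testBit _ _ (rowP_lt _ _) hi hj, rowP_testBit _ _ hj, rowP_testBit _ _ hj]

theorem term1_testBit (a0 a1 b0 b1 k : ℕ) {i j : ℕ} (hi : i < 9) (hj : j < 9) :
    (term1 a0 a1 b0 b1 k).testBit (9 * i + j) =
      xor (a0.testBit (9 * i + k) && b1.testBit (9 * k + j))
        (a1.testBit (9 * i + k) && xor (b0.testBit (9 * k + j)) (b1.testBit (9 * k + j))) := by
  rw [term1, Nat.testBit_xor, outer_testBit _ _ (rowP_lt _ _) hi hj,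
    outer_testBit _ _ (xor_row_lt _ _ _) hi hj, Nat.testBit_xor, rowP_testBit _ _ hj,
    rowP_testBit _ _ hj]

theorem mulM_lt (A B : ℕ) : mulM A B < 2 ^ 162 := by
  refine mk_lt ?_ ?_ <;>
    repeat' first
      | exact term0_lt _ _ _ _ _
      | exact term1_lt _ _ _ _ _
      | apply Nat.xor_lt_two_pow

theorem trP_lt (P : ℕ) : trP P < 2 ^ 81 := pack9_lt fun _ _ => packBits_lt _

theorem trP_testBit (P : ℕ) {i j : ℕ} (hi : i < 9) (hj : j < 9) :
    (trP P).testBit (9 * i + j) = P.testBit (9 * j + i) := by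
  rw [trP, pack9_testBit (fun _ _ => packBits_lt _) hi hj, packBits_testBit _ hj]

theorem ctM_lt (A : ℕ) : ctM A < 2 ^ 162 := mk_lt (trP_lt _) (trP_lt _)

theorem code_ext {A B : ℕ} (hA : A < 2 ^ 162) (hB : B < 2 ^ 162)
    (h0 : ∀ i < 9, ∀ j < 9, A.testBit (9 * i + j) = B.testBit (9 * i + j))
    (h1 : ∀ i < 9, ∀ j < 9, A.testBit (81 + (9 * i + j)) = B.testBit (81 + (9 * i + j))) : A = B := by
  refine Nat.eq_of_testBit_eq fun m => ?_
  by_cases hm : m < 81
  · rw [← Nat.div_add_mod m 9]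
    exact h0 _ (by omega) _ (Nat.mod_lt _ (by norm_num))
  by_cases hm2 : m < 162
  · obtain ⟨l, rfl⟩ : ∃ l, m = 81 + l := ⟨m - 81, by omega⟩
    rw [← Nat.div_add_mod l 9]
    exact h1 _ (by omega) _ (Nat.mod_lt _ (by norm_num))
  · rw [Nat.testBit_lt_two_pow (lt_of_lt_of_le hA (Nat.pow_le_pow_right (by norm_num) (by omega))),
      Nat.testBit_lt_two_pow (lt_of_lt_of_le hB (Nat.pow_le_pow_right (by norm_num) (by omega)))]

theorem oneM_testBit : ∀ i j : Fin 9, oneM.testBit (9 * i.val + j.val) = decide (i = j) ∧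
    oneM.testBit (81 + (9 * i.val + j.val)) = false := by decide +kernel

end CfsgLib.J3
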