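import Cfsg.Agent.Lib.J3.Defs

/-!
Kernel checks on a range of the tables.
-/

set_option autoImplicit false
set_option maxRecDepth 100000

namespace CfsgLib.J3

theorem centOk_0 : partChk (centChk) 23256 0 = true := by decide +kernel

theorem centOk_1 : partChk (centChk) 23256 1 = true := by decide +kernel

theorem centOk_2 : partChk (centChk) 23256 2 = true := by decide +kernel

theorem centOk_3 : partChk (centChk) 23256 3 = true := by decide +kernel

theorem centOk_4 : partChk (centChk) 23256 4 = true := by decide +kernel

theorem centOk_5 : partChk (centChk) 23256 5 = true := by decide +kernel

theorem centOk_6 : partChk (centChk) 23256 6 = true := by decide +kernel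

theorem centOk_7 : partChk (centChk) 23256 7 = true := by decide +kernel

theorem centOk_8 : partChk (centChk) 23256 8 = true := by decide +kernel

theorem centOk_9 : partChk (centChk) 23256 9 = true := by decide +kernel

theorem centOk_10 : partChk (centChk) 23256 10 = true := by decide +kernel

theorem centOk_11 : partChk (centChk) 23256 11 = true := by decide +kernel

theorem centOk_12 : partChk (centChk) 23256 12 = true := by decide +kernel

theorem centOk_13 : partChk (centChk) 23256 13 = true := by decide +kernel

theorem centOk_14 : partChk (centChk) 23256 14 = true := by decide +kernel

theorem centOk_15 : partChk (centChk) 23256 15 = true := by decide +kernel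

theorem centOk_16 : partChk (centChk) 23256 16 = true := by decide +kernel

theorem centOk_17 : partChk (centChk) 23256 17 = true := by decide +kernel

theorem centOk_18 : partChk (centChk) 23256 18 = true := by decide +kernel

theorem centOk_19 : partChk (centChk) 23256 19 = true := by decide +kernel

theorem centOk_20 : partChk (centChk) 23256 20 = true := by decide +kernel

theorem centOk_21 : partChk (centChk) 23256 21 = true := by decide +kernel

theorem centOk_22 : partChk (centChk) 23256 22 = true := by decide +kernel

theorem centOk_23 : partChk (centChk) 23256 23 = true := by decide +kernel

end CfsgLib.J3
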