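import Cfsg.Agent.Lib.J3.Group
import Cfsg.Agent.Lib.J3.CentCheck

/-!
The centraliser of an element of order nineteen.
-/

set_option autoImplicit false
set_option maxRecDepth 20000

namespace CfsgLib.J3

open Cfsg.Spor Matrix CfsgLib.Golay
open scoped MatrixGroups

variable {F : Type*} [Field F] (K : Fld F)

/-- The scalar codes. -/
def scalList : List ℕ := [oneM, omCode, mulM omCode omCode]

theorem scalList_ok : scalList.all okM = true := by decide +kernel

theorem scal_bits : ∀ s ∈ scalList, ∀ i j : F9,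
    if i = j then (s.testBit (9 * ix i + ix j) = s.testBit 0 ∧
      s.testBit (81 + (9 * ix i + ix j)) = s.testBit 81)
    else s.testBit (9 * ix i + ix j) = false ∧ s.testBit (81 + (9 * ix i + ix j)) = false := by
  decide +kernel

theorem scal_cover : ∀ a b : Bool, (a = true ∨ b = true) →
    ∃ s ∈ scalList, s.testBit 0 = a ∧ s.testBit 81 = b := by
  decide +kernel

theorem toMat_scal {s : ℕ} (hs : s ∈ scalList) :
    toMat K s = val2 K (s.testBit 0) (s.testBit 81) • (1 : Matrix F9 F9 F) := by
  ext i j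
  have h := scal_bits s hs i j
  by_cases hij : i = j
  · subst hij
    rw [if_pos rfl] at h
    simp [toMat, h.1, h.2]
  · rw [if_neg hij] at h
    simp [toMat, h.1, h.2, hij, val2]

theorem exists_scal {c : F} (hc : c ≠ 0) :
    ∃ s ∈ scalList, toMat K s = c • (1 : Matrix F9 F9 F) := by
  obtain ⟨a, b, hab, rfl⟩ : ∃ a b, (a = true ∨ b = true) ∧ val2 K a b = c := by
    rcases K.elems c with h | h | h | h
    · exact absurd h hc
    · exact ⟨true, false, Or.inl rfl, by simp [val2, h]⟩
    · exact ⟨false, true, Or.inr rfl, by simp [val2, h]⟩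
    · exact ⟨true, true, Or.inl rfl, by simp [val2, h]⟩
  obtain ⟨s, hs, h1, h2⟩ := scal_cover a b hab
  exact ⟨s, hs, by rw [toMat_scal K hs, h1, h2]⟩

/-- The element of order nineteen. -/
def xElt : GL F9 F := val K elt19

theorem pow_table : ((powX 0).beq oneM &&
    ((List.range 18).all fun k => (powX (k + 1)).beq (mulM elt19 (powX k))) &&
    (mulM elt19 (powX 18)).beq oneM) = true := by
  decide +kernel

theorem elt19_ok : okM elt19 = true ∧
    elt19 = mulM (rep 1651) (prod3 0 19 4) := by decide +kernel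

theorem powX_spec : ∀ {k : ℕ}, k < 19 → okM (powX k) = true ∧ val K (powX k) = xElt K ^ k := by
  have h := pow_table
  simp only [Bool.and_eq_true, Nat.beq_eq, List.all_eq_true, List.mem_range] at h
  intro k
  induction k with
  | zero =>
    intro _
    rw [h.1.1, pow_zero, val_oneM]
    exact ⟨ok_oneM, rfl⟩
  | succ k ih =>
    intro hk
    obtain ⟨h1, h2⟩ := ih (by omega)
    rw [h.1.2 k (by omega), pow_succ', ← h2]
    exact ⟨ok_mulM elt19_ok.1 h1 K, val_mulM K elt19_ok.1 h1⟩

theorem xElt_pow : xElt K ^ 19 = 1 := by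
  have h := pow_table
  simp only [Bool.and_eq_true, Nat.beq_eq, List.all_eq_true, List.mem_range] at h
  obtain ⟨h1, h2⟩ := powX_spec K (show 18 < 19 by norm_num)
  rw [pow_succ', ← h2, xElt, ← val_mulM K elt19_ok.1 h1, h.2, val_oneM]

theorem xElt_mem [Finite F] : xElt K ∈ grpG K := by
  obtain ⟨h3, h4⟩ := (grpH_spec K).2.1 [0, 19, 4]
  rw [xElt, elt19_ok.2, show prod3 0 19 4 = Bsgs.prodReps (ops K) tailLevels [0, 19, 4] from rfl,
    val_mulM K (ok_rep (by norm_num) K) h3]
  exact decomp_mem K (by norm_num) h4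

/-- The certificate for one surviving line. -/
def survChk (e : ℕ × ℕ × Bool) : Bool :=
  let r := rep e.1
  e.1.blt 23256 && (mulM e.2.1 oneM).beq e.2.1 &&
  ((List.range 9).all fun k =>
    let N := mulM e.2.1 cycMat
    let M := mulM (powX k) r
    (colP (p0 N) k).beq (colP (p0 M) 0) && (colP (p1 N) k).beq (colP (p1 M) 0)) &&
  (if e.2.2 then
    scalList.any fun s => (List.range 19).any fun j => e.2.1.beq (mulM s (powX j))
  else
    scalList.all fun s => lvl1.reps.all fun r1 =>
      !(imgC (mulM s (mulM (ctM r) e.2.1)) lvl1.base).beq (imgC r1 lvl1.base))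

theorem survChk_all : survivors.all survChk = true := by decide +kernel

theorem cyc_ok : (((List.range 9).all fun k => (colP (p0 cycMat) k).beq (colP (p0 (powX k)) 0) &&
      (colP (p1 cycMat) k).beq (colP (p1 (powX k)) 0)) &&
    (mulM cycMat cycInv).beq oneM) = true := by
  decide +kernel

theorem col_bits {A B k : ℕ} (hk : k < 9) (h0 : colP (p0 A) k = colP (p0 B) 0)
    (h1 : colP (p1 A) k = colP (p1 B) 0) (i : F9) :
    toMat K A i (e9.symm ⟨k, hk⟩) = toMat K B i 0 := by
  have key : ∀ P Q : ℕ, colP P k = colP Q 0 →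
      P.testBit (9 * ix i + k) = Q.testBit (9 * ix i + 0) := by
    intro P Q h
    have hb : ∀ (R m : ℕ), ∀ l < 9, (R.testBit (9 * l + m)).toNat < 512 := fun R m l _ => by
      cases R.testBit (9 * l + m) <;> simp
    rw [colP_eq, colP_eq] at h
    have h' := congrArg (fun z => Nat.testBit z (9 * ix i + 0)) h
    simp only [pack9_testBit (hb _ _) (ix_lt i) (show (0 : ℕ) < 9 by norm_num)] at h'
    revert h'
    cases P.testBit (9 * ix i + k) <;> cases Q.testBit (9 * ix i + 0) <;> simp
  simp only [toMat, ix_symm, ix_zero]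
  rw [← p1_testBit, ← p1_testBit, key _ _ h1]
  have hi := ix_lt i
  have h' := key _ _ h0
  rw [p0_testBit _ (by omega), p0_testBit _ (by omega)] at h'
  rw [h']

section
variable [Finite F]

theorem conj_entry {h : GL F9 F} (hh : h • ptC K 2 = ptC K 2) (M : Matrix F9 F9 F) :
    (h.val * M * (h⁻¹ : GL F9 F).val) 0 0 = M 0 0 := by
  have hh' : h⁻¹ • ptC K 2 = ptC K 2 := inv_smul_eq_iff.2 hh.symm
  rw [Matrix.mul_apply, Finset.sum_eq_single 0 (fun j _ hj => by
      rw [(col_scalar K hh' hj).1, mul_zero]) (by simp),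
    Matrix.mul_apply, Finset.sum_eq_single 0 (fun j _ hj => by
      rw [(col_scalar K hh hj).2, zero_mul]) (by simp)]
  have h1 := congrFun (congrFun (Units.mul_inv h) 0) 0
  rw [Matrix.mul_apply, Finset.sum_eq_single 0 (fun j _ hj => by
      rw [(col_scalar K hh hj).2, zero_mul]) (by simp), Matrix.one_apply_eq] at h1
  linear_combination M 0 0 * h1

/-- The elements commuting with the element of order nineteen. -/
theorem cent_elt19 {g : GL F9 F} (hg : g ∈ grpG K) (hc : g * xElt K = xElt K * g) :
    ∃ s ∈ scalList, ∃ j < 19, g = val K s * xElt K ^ j := by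
  obtain ⟨i, hi, h, hh, rfl⟩ := exists_decomp K hg
  have hr := ok_rep hi K
  have hfix := grpH_fix K hh
  -- the line must survive
  have hherm : ∀ k, k < 19 → hermAt (rep i) k = true := by
    intro k hk
    obtain ⟨hk1, hk2⟩ := powX_spec K hk
    have hck := (Commute.pow_right hc k).eq
    have e : ((val K (rep i))⁻¹ * (val K (powX k) * val K (rep i)) : GL F9 F) =
        h * xElt K ^ k * h⁻¹ := by
      rw [hk2]
      have e1 : xElt K ^ k = val K (rep i) * h * xElt K ^ k * (val K (rep i) * h)⁻¹ :=
        eq_mul_inv_iff_mul_eq.2 hck.symm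
      conv_lhs => rw [e1]
      group
    have e' := congrArg (fun z : GL F9 F => (z : Matrix F9 F9 F) 0 0) e
    rw [Units.val_mul, Units.val_mul, Units.val_mul, Units.val_mul, conj_entry K hfix, ← hk2,
      val_inv K hr, val_coe K hk1, val_coe K hr, ← toMat_mulM, ← toMat_mulM] at e'
    simp only [toMat, ix_zero, Nat.mul_zero, Nat.add_zero] at e'
    obtain ⟨e1, e2⟩ := val2_inj K e'
    exact decide_eq_true ((herm_eq _ _).trans (Prod.ext e1 e2))
  have hsurv : i ∈ survIdx := by
    have hcc : centChk i = true := of_part (m := 24) (fun s hs => by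
      interval_cases s
      exacts [centOk_0, centOk_1, centOk_2, centOk_3, centOk_4, centOk_5, centOk_6, centOk_7,
        centOk_8, centOk_9, centOk_10, centOk_11, centOk_12, centOk_13, centOk_14, centOk_15,
        centOk_16, centOk_17, centOk_18, centOk_19, centOk_20, centOk_21, centOk_22, centOk_23])
      (by norm_num) hi
    simpa [centChk, hherm] using hcc
  obtain ⟨⟨i', Y, fl⟩, he, rfl⟩ := List.mem_map.1 hsurv
  have hs := List.all_eq_true.1 survChk_all _ he
  simp only [survChk, Bool.and_eq_true, List.all_eq_true, List.mem_range, Nat.beq_eq] at hs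
  obtain ⟨⟨⟨-, hY⟩, hcol⟩, hflag⟩ := hs
  have hYlt : Y < 2 ^ 162 := hY ▸ mulM_lt _ _
  set c := h.val 0 0 with hcdef
  have hc0 : c ≠ 0 := by
    intro h0
    have := congrFun (congrFun (Units.mul_inv h) 0) 0
    rw [Matrix.mul_apply, Finset.sum_eq_single 0 (fun j _ hj => by
      rw [(col_scalar K hfix hj).2, zero_mul]) (by simp), ← hcdef, h0, zero_mul,
      Matrix.one_apply_eq] at this
    exact zero_ne_one this
  have hcyc := cyc_ok
  simp only [Bool.and_eq_true, List.all_eq_true, List.mem_range, Nat.beq_eq] at hcyc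
  have hgY : (val K (rep i') * h).val = c • toMat K Y := by
    have h1 : (val K (rep i') * h).val * toMat K cycMat = (c • toMat K Y) * toMat K cycMat := by
      ext a b
      obtain ⟨⟨k, hk⟩, rfl⟩ := e9.symm.surjective b
      obtain ⟨hk1, hk2⟩ := powX_spec K (show k < 19 by omega)
      have hl : ((val K (rep i') * h).val * toMat K cycMat) a (e9.symm ⟨k, hk⟩) =
          ((val K (rep i') * h).val * toMat K (powX k)) a 0 := by
        rw [Matrix.mul_apply, Matrix.mul_apply]
        refine Finset.sum_congr rfl fun l _ => ?_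
        rw [col_bits K hk (hcyc.1 k hk).1 (hcyc.1 k hk).2 l]
      rw [hl, smul_mul_assoc, Matrix.smul_apply, ← toMat_mulM,
        col_bits K hk (hcol k hk).1 (hcol k hk).2 a, toMat_mulM, ← val_coe K hk1, ← Units.val_mul,
        hk2, (Commute.pow_right hc k).eq, ← hk2, Units.val_mul, Units.val_mul, val_coe K hk1,
        val_coe K hr, ← Matrix.mul_assoc, Matrix.mul_apply, Finset.sum_eq_single 0 (fun j _ hj => by
          rw [(col_scalar K hfix hj).1, mul_zero]) (by simp), smul_eq_mul, mul_comm]
    have h2 := congrArg (· * toMat K cycInv) h1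
    rwa [Matrix.mul_assoc, Matrix.mul_assoc, ← toMat_mulM, hcyc.2, toMat_oneM, Matrix.mul_one,
      Matrix.mul_one] at h2
  obtain ⟨s, hs, hsc⟩ := exists_scal K hc0
  have hsok : okM s = true := List.all_eq_true.1 scalList_ok s hs
  cases fl
  · -- the element would lie outside the stabiliser
    exfalso
    simp only [Bool.false_eq_true, if_false, List.all_eq_true, Bool.not_eq_true'] at hflag
    obtain ⟨C, hC, hCv⟩ := exists_code K (grpH_le K hh)
    have hCeq : C = mulM s (mulM (ctM (rep i')) Y) := by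
      refine toMat_inj K (ok_spec K hC).1 (mulM_lt _ _) ?_
      rw [← val_coe K hC, hCv, show h = (val K (rep i'))⁻¹ * (val K (rep i') * h) by group,
        Units.val_mul, hgY, val_inv K hr, toMat_mulM, toMat_mulM, hsc, smul_mul_assoc,
        Matrix.one_mul, Matrix.mul_smul]
    obtain ⟨-, -, -, -, hdec⟩ := Bsgs.spec (ops K) ptOk_two (chain_check K)
    obtain ⟨r1, hr1, h2, hh2, e⟩ := hdec lvl1 [lvl2, lvl3] rfl h hh
    have hchk := chain_check K
    rw [show tailLevels = lvl1 :: [lvl2, lvl3] from rfl, Bsgs.check] at hchk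
    simp only [Bool.and_eq_true, List.all_eq_true] at hchk
    obtain ⟨⟨⟨⟨⟨⟨⟨⟨hb, -⟩, hreps⟩, -⟩, -⟩, -⟩, -⟩, -⟩, hrec⟩ := hchk
    have hb2 : ∀ f ∈ [2] ++ [lvl1.base], (ops K).ptOk f = true := by
      intro f hf
      rcases List.mem_append.1 hf with hf | hf
      · exact ptOk_two f hf
      · rw [List.mem_singleton.1 hf]; exact hb
    have hfix2 := (Bsgs.spec (ops K) hb2 hrec).1 h2 hh2 lvl1.base (by simp)
    have e1 : val K C • ptC K lvl1.base = val K r1 • ptC K lvl1.base := by
      rw [hCv, e, mul_smul]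
      exact congrArg ((ops K).val r1 • ·) hfix2
    obtain ⟨p1, p2⟩ := (ops K).pt_img C lvl1.base hC hb
    obtain ⟨q1, q2⟩ := (ops K).pt_img r1 lvl1.base (hreps r1 hr1) hb
    have e2 : imgC C lvl1.base = imgC r1 lvl1.base :=
      (ops K).pt_inj _ _ p2 q2 (p1.symm.trans (e1.trans q1))
    rw [hCeq] at e2
    have := hflag s hs r1 hr1
    rw [e2] at this
    simp at this
  · simp only [if_true, List.any_eq_true, List.mem_range, Nat.beq_eq] at hflag
    obtain ⟨t, ht, j, hj, rfl⟩ := hflag
    obtain ⟨hj1, hj2⟩ := powX_spec K hj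
    have htok : okM t = true := List.all_eq_true.1 scalList_ok t ht
    have hprod : ∃ u ∈ scalList, toMat K u = toMat K s * toMat K t := by
      obtain ⟨u, hu, hu'⟩ := exists_scal K (mul_ne_zero hc0 (show val2 K (t.testBit 0)
          (t.testBit 81) ≠ 0 by
        intro h0
        have := congrFun (congrFun (ok_spec K htok).2 0) 0
        rw [toMat_scal K ht, h0] at this
        simp at this))
      exact ⟨u, hu, by rw [hu', hsc, toMat_scal K ht, smul_mul_smul_comm, Matrix.one_mul]⟩
    obtain ⟨u, hu, hu'⟩ := hprod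
    refine ⟨u, hu, j, hj, Units.ext ?_⟩
    rw [hgY, toMat_mulM, Units.val_mul, val_coe K (List.all_eq_true.1 scalList_ok u hu), hu', ← hj2,
      val_coe K hj1, hsc, smul_mul_assoc, smul_mul_assoc, Matrix.one_mul]

end

end CfsgLib.J3
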