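import Cfsg.Agent.Lib.J3.Mat
import Cfsg.Agent.Lib.J3.OrbitData
import Cfsg.Agent.Lib.J3.SiftData
import Cfsg.Agent.Lib.J3.ChainData
import Cfsg.Agent.Lib.J3.CentData

/-!
Lookups and the checks that are run on the tables.
-/

set_option autoImplicit false

namespace CfsgLib.J3

/-- Lookup in packed blocks of 256 entries of width `w`. -/
def lookB (L : List ℕ) (w i : ℕ) : ℕ := ((L.getD (i / 256) 0) >>> (w * (i % 256))) % 2 ^ w

/-- The transversal. -/
def rep (i : ℕ) : ℕ := lookB repB 162 i

/-- The parents. -/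
def parOf (k : ℕ) : ℕ := lookB parB 16 k

/-- The two generators. -/
def topGen (g : ℕ) : ℕ := if g = 0 then codeX else codeY

/-- The lower plane of the first column. -/
def col0a (A : ℕ) : ℕ := packBits fun i => A.testBit (9 * i)

/-- The upper plane of the first column. -/
def col0b (A : ℕ) : ℕ := packBits fun i => A.testBit (81 + 9 * i)

/-- The canonical code of a line. -/
def keyP (a b : ℕ) : ℕ :=
  Nat.min (a + 512 * b) (Nat.min (b + 512 * (a ^^^ b)) ((a ^^^ b) + 512 * a))

/-- The line of the first column. -/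
def keyA (A : ℕ) : ℕ := keyP (col0a A) (col0b A)

/-- The orbit lines in increasing order. -/
def srt (i : ℕ) : ℕ := lookB srtB 18 i

/-- The rank of an orbit line. -/
def rankOf (i : ℕ) : ℕ := lookB rankB 15 i

/-- The line of a rank. -/
def invOf (i : ℕ) : ℕ := lookB invB 15 i

/-- The parent check. -/
def parChk (k : ℕ) : Bool :=
  let p := parOf k
  (p / 32768).blt 2 && (p % 32768).ble k &&
    (rep (k + 1)).beq (mulM (topGen (p / 32768)) (rep (p % 32768)))

/-- The rank check. -/
def rankChk (i : ℕ) : Bool :=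
  let r := rankOf i
  r.blt 23256 && (invOf r).beq i && (keyA (rep i)).beq (srt r) &&
    ((srt i).blt (srt (i + 1)) || i.beq 23255)

/-- The table of stabiliser elements. -/
def htab (m : ℕ) : ℕ := lookB htabB 162 m

/-- The sifting data. -/
def topOf (g i : ℕ) : ℕ := lookB (if g = 0 then topB0_ else topB1_) 28 i

/-- The sifting check. -/
def topChk (g i : ℕ) : Bool :=
  let e := topOf g i
  (e % 32768).blt 23256 && (e / 32768).blt 6249 &&
    (mulM (topGen g) (rep i)).beq (mulM (rep (e % 32768)) (htab (e / 32768)))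

/-- The product of three representatives. -/
def prod3 (a b c : ℕ) : ℕ :=
  mulM (lvl1.reps.getD a oneM) (mulM (lvl2.reps.getD b oneM)
    (mulM (lvl3.reps.getD c oneM) oneM))

/-- The table check. -/
def htabChk (m : ℕ) : Bool :=
  let e := lookB hcertB 14 m
  (htab m).beq (prod3 (e % 32) (e / 32 % 32) (e / 1024))

/-- Powers of the element of order nineteen. -/
def powX (k : ℕ) : ℕ := eltPows.getD k oneM

/-- The parity of the first bits of the nine slots. -/
def parC (c : ℕ) : Bool := (c * cmask).testBit 72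

/-- The Hermitian invariant of a transversal element. -/
def herm (r k : ℕ) : Bool × Bool :=
  let N := mulM (powX k) r
  let wa := colP (p0 N) 0
  let wb := colP (p1 N) 0
  let va := colP (p0 r) 0
  let vb := colP (p1 r) 0
  (parC (((va ^^^ vb) &&& wa) ^^^ (vb &&& wb)),
    parC (((va ^^^ vb) &&& wb) ^^^ (vb &&& (wa ^^^ wb))))

/-- The bit of a position as a slot. -/
def slotBits (x : ℕ → Bool) : ℕ := pack9 fun i => (x i).toNat

theorem parC_table : ∀ b0 b1 b2 b3 b4 b5 b6 b7 b8 : Bool,
    parC (slotBits fun i => [b0, b1, b2, b3, b4, b5, b6, b7, b8].getD i false) =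
      xor (xor (xor (xor (xor (xor (xor (xor b0 b1) b2) b3) b4) b5) b6) b7) b8 := by
  decide +kernel

theorem slotBits_testBit (x : ℕ → Bool) (m : ℕ) :
    (slotBits x).testBit m = (decide (m < 81 ∧ m % 9 = 0) && x (m / 9)) := by
  have hb : ∀ i < 9, (x i).toNat < 512 := fun i _ => by cases x i <;> simp
  by_cases hm : m < 81
  · conv_lhs => rw [← Nat.div_add_mod m 9, slotBits]
    rw [pack9_testBit hb (by omega) (Nat.mod_lt _ (by norm_num))]
    by_cases h0 : m % 9 = 0
    · cases h : x (m / 9) <;> simp [hm, h0]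
    · rw [Nat.testBit_lt_two_pow (lt_of_le_of_lt (Bool.toNat_le _) (Nat.one_lt_two_pow h0))]
      simp [h0]
  · rw [slotBits, Nat.testBit_lt_two_pow
      (lt_of_lt_of_le (pack9_lt hb) (Nat.pow_le_pow_right (by norm_num) (by omega)))]
    simp [hm]

theorem slotBits_and (x y : ℕ → Bool) :
    slotBits x &&& slotBits y = slotBits fun i => x i && y i := by
  refine Nat.eq_of_testBit_eq fun m => ?_
  simp only [Nat.testBit_and, slotBits_testBit]
  cases decide (m < 81 ∧ m % 9 = 0) <;> simp

theorem slotBits_xor (x y : ℕ → Bool) :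
    slotBits x ^^^ slotBits y = slotBits fun i => xor (x i) (y i) := by
  refine Nat.eq_of_testBit_eq fun m => ?_
  simp only [Nat.testBit_xor, slotBits_testBit]
  cases decide (m < 81 ∧ m % 9 = 0) <;> simp

theorem parC_slotBits (x : ℕ → Bool) : parC (slotBits x) =
    xor (xor (xor (xor (xor (xor (xor (xor (x 0) (x 1)) (x 2)) (x 3)) (x 4)) (x 5)) (x 6)) (x 7))
      (x 8) := by
  rw [← parC_table]
  congr 1

theorem colP_slot (P k : ℕ) : colP P k = slotBits fun i => P.testBit (9 * i + k) := colP_eq P k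

/-- The invariant is an entry of a product. -/
theorem herm_eq (r k : ℕ) :
    herm r k = ((mulM (ctM r) (mulM (powX k) r)).testBit 0,
      (mulM (ctM r) (mulM (powX k) r)).testBit 81) := by
  set N := mulM (powX k) r with hN
  have hlt : ∀ a0 a1 b0 b1, term0 a0 a1 b0 b1 0 ^^^ term0 a0 a1 b0 b1 1 ^^^ term0 a0 a1 b0 b1 2 ^^^
      term0 a0 a1 b0 b1 3 ^^^ term0 a0 a1 b0 b1 4 ^^^ term0 a0 a1 b0 b1 5 ^^^ term0 a0 a1 b0 b1 6 ^^^
      term0 a0 a1 b0 b1 7 ^^^ term0 a0 a1 b0 b1 8 < 2 ^ 81 := fun a0 a1 b0 b1 => by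
    repeat' first
      | exact term0_lt _ _ _ _ _
      | apply Nat.xor_lt_two_pow
  have h0 : ∀ a0 a1 b0 b1 i, (term0 a0 a1 b0 b1 i).testBit 0 =
      xor (a0.testBit i && b0.testBit (9 * i)) (a1.testBit i && b1.testBit (9 * i)) :=
    fun a0 a1 b0 b1 i => by
      simpa using term0_testBit a0 a1 b0 b1 i (i := 0) (j := 0) (by norm_num) (by norm_num)
  have h1 : ∀ a0 a1 b0 b1 i, (term1 a0 a1 b0 b1 i).testBit 0 =
      xor (a0.testBit i && b1.testBit (9 * i))
        (a1.testBit i && xor (b0.testBit (9 * i)) (b1.testBit (9 * i))) :=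
    fun a0 a1 b0 b1 i => by
      simpa using term1_testBit a0 a1 b0 b1 i (i := 0) (j := 0) (by norm_num) (by norm_num)
  have ht : ∀ i, i < 9 → (p0 (ctM r)).testBit i = xor ((p0 r).testBit (9 * i)) ((p1 r).testBit (9 * i))
      ∧ (p1 (ctM r)).testBit i = (p1 r).testBit (9 * i) := by
    intro i hi
    have e := trP_testBit (p0 r ^^^ p1 r) (i := 0) (j := i) (by norm_num) hi
    have e' := trP_testBit (p1 r) (i := 0) (j := i) (by norm_num) hi
    simp only [Nat.mul_zero, Nat.zero_add, Nat.add_zero, Nat.testBit_xor] at e e'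
    constructor
    · rw [p0_testBit _ (by omega), ctM, mk_testBit_low (trP_lt _) _ (by omega), e]
    · rw [p1_testBit, ctM, mk_testBit_high (trP_lt _), e']
  simp only [herm, ← hN, colP_slot, slotBits_xor, slotBits_and, parC_slotBits, Nat.add_zero]
  rw [mulM, mulAux]
  refine Prod.ext ?_ ?_
  · rw [mk_testBit_low (hlt _ _ _ _) _ (by norm_num)]
    simp only [Nat.testBit_xor, h0, (ht 0 (by norm_num)).1, (ht 0 (by norm_num)).2,
      (ht 1 (by norm_num)).1, (ht 1 (by norm_num)).2, (ht 2 (by norm_num)).1, (ht 2 (by norm_num)).2,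
      (ht 3 (by norm_num)).1, (ht 3 (by norm_num)).2, (ht 4 (by norm_num)).1, (ht 4 (by norm_num)).2,
      (ht 5 (by norm_num)).1, (ht 5 (by norm_num)).2, (ht 6 (by norm_num)).1, (ht 6 (by norm_num)).2,
      (ht 7 (by norm_num)).1, (ht 7 (by norm_num)).2, (ht 8 (by norm_num)).1, (ht 8 (by norm_num)).2]
  · rw [show (81 : ℕ) = 81 + 0 from rfl, mk_testBit_high (hlt _ _ _ _)]
    simp only [Nat.testBit_xor, h1, (ht 0 (by norm_num)).1, (ht 0 (by norm_num)).2,
      (ht 1 (by norm_num)).1, (ht 1 (by norm_num)).2, (ht 2 (by norm_num)).1, (ht 2 (by norm_num)).2,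
      (ht 3 (by norm_num)).1, (ht 3 (by norm_num)).2, (ht 4 (by norm_num)).1, (ht 4 (by norm_num)).2,
      (ht 5 (by norm_num)).1, (ht 5 (by norm_num)).2, (ht 6 (by norm_num)).1, (ht 6 (by norm_num)).2,
      (ht 7 (by norm_num)).1, (ht 7 (by norm_num)).2, (ht 8 (by norm_num)).1, (ht 8 (by norm_num)).2]

/-- The invariant agrees with the one of the first line. -/
def hermAt (r k : ℕ) : Bool := decide (herm r k = ((powX k).testBit 0, (powX k).testBit 81))

/-- The indices of the surviving lines. -/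
def survIdx : List ℕ := survivors.map (·.1)

/-- The survivor check. -/
def centChk (i : ℕ) : Bool :=
  !(hermAt (rep i) 1 && hermAt (rep i) 2 && hermAt (rep i) 3 && hermAt (rep i) 4 && hermAt (rep i) 5)
    || survIdx.contains i

/-- Running a check on a range. -/
def partChk (P : ℕ → Bool) (n s : ℕ) : Bool :=
  (List.range 1000).all fun i => !(1000 * s + i).blt n || P (1000 * s + i)

theorem of_part {P : ℕ → Bool} {n m : ℕ} (h : ∀ s, s < m → partChk P n s = true)
    (hn : n ≤ 1000 * m) {i : ℕ} (hi : i < n) : P i = true := by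
  have h' := h (i / 1000) (by omega)
  simp only [partChk, List.all_eq_true, List.mem_range, Bool.or_eq_true, Bool.not_eq_true'] at h'
  have h2 := h' (i % 1000) (Nat.mod_lt _ (by norm_num))
  rw [Nat.div_add_mod] at h2
  refine h2.resolve_left fun e => ?_
  have : Nat.blt i n = true := by rw [Nat.blt_eq]; exact hi
  rw [this] at e
  exact Bool.noConfusion e

end CfsgLib.J3
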