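import Cfsg.Agent.Lib.J3.Mat
import Cfsg.Agent.Lib.J3.ChainData

/-!
The defining matrices as codes.
-/

set_option autoImplicit false

namespace CfsgLib.J3

open Cfsg.Spor Matrix
open scoped MatrixGroups

/-- The bits of a power of the cube root of unity. -/
def powBits (n : ZMod 3) : Bool × Bool :=
  if n = 0 then (true, false) else if n = 1 then (false, true) else (true, true)

/-- The bits of a zero-one entry. -/
def oneBits (b : Bool) : Bool × Bool := (b, false)

/-- The bits of the entries of the defining matrices. -/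
def genBits (k : ℕ) (Z w z : F9) : Bool × Bool :=
  match k with
  | 0 => if w = z then powBits (Z.1 * w.1 + Z.2 * w.2) else (false, false)
  | 1 => if w = z then powBits ((Z.1 - w.1) ^ 2 + (Z.2 - w.2) ^ 2) else (false, false)
  | 2 => if w = z + Z then
      (if z = 0 then (true, false)
        else if F9.div Z z = F9.I - F9.one then (false, true)
        else if F9.div Z z = -F9.I - F9.one then (true, true)
        else (true, false)) else (false, false)
  | 3 => oneBits (decide (w = F9.mul Z z))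
  | _ => oneBits (if z = 0 then decide (w = 0) else decide (w = -F9.div Z z ∨
      w = F9.mul F9.I (F9.div Z z) ∨ w = -F9.mul F9.I (F9.div Z z)))

/-- The index of a table row. -/
def rowZ (e : ℕ × (ℕ × ℕ) × ℕ × ℕ × List ℕ) : F9 := ((e.2.1.1 : ℕ), (e.2.1.2 : ℕ))

theorem genTable_bits : ∀ e ∈ genTable, ∀ w z : F9,
    ((e.2.2.1).testBit (9 * ix w + ix z), (e.2.2.1).testBit (81 + (9 * ix w + ix z))) =
      genBits e.1 (rowZ e) w z := by
  decide +kernel

theorem genTable_kinds : (∀ e ∈ genTable, e.1 ≤ 4 ∧ (3 ≤ e.1 → rowZ e ≠ 0)) ∧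
    (∀ k : Fin 5, ∀ Z : F9, 3 ≤ k.val ∧ Z = 0 ∨ ∃ e ∈ genTable, e.1 = k.val ∧ rowZ e = Z) ∧
    genTable.all (fun e => okM e.2.2.1) = true := by
  decide +kernel

variable {F : Type*} [Field F] (K : Fld F)

theorem omegaPow_bits (n : ZMod 3) :
    omegaPow F K.ω n = val2 K (powBits n).1 (powBits n).2 := by
  obtain rfl | rfl | rfl : n = 0 ∨ n = 1 ∨ n = 2 := by revert n; decide
  · simp [omegaPow, powBits, val2]
  · simp [omegaPow, powBits, val2, ZMod.val_one]
  · rw [omegaPow, show (2 : ZMod 3).val = 2 from rfl,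
      show powBits 2 = (true, true) from rfl, pow_two, root' K]
    simp [val2]

/-- The defining matrix of a given kind. -/
noncomputable def genMat : ℕ → F9 → Matrix F9 F9 F
  | 0, Z => j3A F K.ω Z
  | 1, Z => j3E F K.ω Z
  | 2, Z => j3D F K.ω Z
  | 3, Z => j3B F Z
  | _, Z => j3C F Z

theorem genMat_bits (k : ℕ) (hk : k ≤ 4) (Z w z : F9) :
    genMat K k Z w z = val2 K (genBits k Z w z).1 (genBits k Z w z).2 := by
  interval_cases k
  · simp only [genMat, j3A, genBits, diagonal_apply]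
    split_ifs with h
    · rw [omegaPow_bits]
    · simp [val2]
  · simp only [genMat, j3E, genBits, diagonal_apply]
    split_ifs with h
    · rw [omegaPow_bits]
    · simp [val2]
  · simp only [genMat, j3D, genBits, j3Lam, of_apply]
    split_ifs <;> simp [val2, pow_two, root' K]
  · simp only [genMat, j3B, genBits, oneBits, of_apply]
    split_ifs with h <;> simp [val2, h]
  · simp only [genMat, j3C, genBits, oneBits, of_apply]
    split_ifs with h1 h2 h3 <;> simp_all [val2]

theorem genTable_mat {e : ℕ × (ℕ × ℕ) × ℕ × ℕ × List ℕ} (he : e ∈ genTable) :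
    toMat K e.2.2.1 = genMat K e.1 (rowZ e) := by
  ext w z
  rw [genMat_bits K _ (genTable_kinds.1 e he).1, ← genTable_bits e he w z]
  rfl

theorem mem_gens_iff (M : Matrix F9 F9 F) :
    M ∈ j3Gens F K.ω ↔ ∃ e ∈ genTable, toMat K e.2.2.1 = M := by
  constructor
  · intro h
    obtain ⟨k, Z, hk, rfl⟩ : ∃ (k : Fin 5) (Z : F9), ¬ (3 ≤ k.val ∧ Z = 0) ∧ genMat K k.val Z = M := by
      rcases h with ((((⟨Z, rfl⟩ | ⟨Z, rfl⟩) | ⟨Z, rfl⟩) | ⟨Z, hZ, rfl⟩) | ⟨Z, hZ, rfl⟩)
      · exact ⟨0, Z, by simp, rfl⟩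
      · exact ⟨1, Z, by simp, rfl⟩
      · exact ⟨2, Z, by simp, rfl⟩
      · exact ⟨3, Z, by simp [hZ], rfl⟩
      · exact ⟨4, Z, by simp [hZ], rfl⟩
    obtain ⟨e, he, h1, h2⟩ := (genTable_kinds.2.1 k Z).resolve_left hk
    exact ⟨e, he, by rw [genTable_mat K he, h1, h2]⟩
  · rintro ⟨e, he, rfl⟩
    rw [genTable_mat K he]
    obtain ⟨h1, h2⟩ := genTable_kinds.1 e he
    rcases e with ⟨k, r⟩
    simp only at h1 h2 ⊢
    interval_cases k
    · exact Or.inl (Or.inl (Or.inl (Or.inl ⟨_, rfl⟩)))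
    · exact Or.inl (Or.inl (Or.inl (Or.inr ⟨_, rfl⟩)))
    · exact Or.inl (Or.inl (Or.inr ⟨_, rfl⟩))
    · exact Or.inl (Or.inr ⟨_, h2 (by norm_num), rfl⟩)
    · exact Or.inr ⟨_, h2 (by norm_num), rfl⟩

theorem threeJ3_eq : threeJ3 F K.ω =
    Subgroup.closure {g | ∃ e ∈ genTable, val K e.2.2.1 = g} := by
  have hok := genTable_kinds.2.2
  simp only [List.all_eq_true] at hok
  refine congrArg Subgroup.closure (Set.ext fun g => ?_)
  show (g : Matrix F9 F9 F) ∈ j3Gens F K.ω ↔ _
  rw [mem_gens_iff]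
  constructor
  · rintro ⟨e, he, h⟩
    exact ⟨e, he, Units.ext (by rw [val_coe K (hok e he), h])⟩
  · rintro ⟨e, he, rfl⟩
    exact ⟨e, he, (val_coe K (hok e he)).symm⟩

end CfsgLib.J3
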