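import Cfsg.Agent.Lib.J3.Defs

/-!
Kernel checks on a range of the tables.
-/

set_option autoImplicit false
set_option maxRecDepth 100000

namespace CfsgLib.J3

theorem htabOk_0 : partChk (htabChk) 6249 0 = true := by decide +kernel

theorem htabOk_1 : partChk (htabChk) 6249 1 = true := by decide +kernel

theorem htabOk_2 : partChk (htabChk) 6249 2 = true := by decide +kernel

theorem htabOk_3 : partChk (htabChk) 6249 3 = true := by decide +kernel

theorem htabOk_4 : partChk (htabChk) 6249 4 = true := by decide +kernel

theorem htabOk_5 : partChk (htabChk) 6249 5 = true := by decide +kernel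

theorem htabOk_6 : partChk (htabChk) 6249 6 = true := by decide +kernel

end CfsgLib.J3
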