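import Cfsg.Agent.Lib.J3.Defs

/-!
Kernel checks on a range of the tables.
-/

set_option autoImplicit false
set_option maxRecDepth 100000

namespace CfsgLib.J3

theorem parOk_0 : partChk (parChk) 23255 0 = true := by decide +kernel

theorem parOk_1 : partChk (parChk) 23255 1 = true := by decide +kernel

theorem parOk_2 : partChk (parChk) 23255 2 = true := by decide +kernel

theorem parOk_3 : partChk (parChk) 23255 3 = true := by decide +kernel

theorem parOk_4 : partChk (parChk) 23255 4 = true := by decide +kernel

theorem parOk_5 : partChk (parChk) 23255 5 = true := by decide +kernel

theorem parOk_6 : partChk (parChk) 23255 6 = true := by decide +kernel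

theorem parOk_7 : partChk (parChk) 23255 7 = true := by decide +kernel

theorem parOk_8 : partChk (parChk) 23255 8 = true := by decide +kernel

theorem parOk_9 : partChk (parChk) 23255 9 = true := by decide +kernel

theorem parOk_10 : partChk (parChk) 23255 10 = true := by decide +kernel

theorem parOk_11 : partChk (parChk) 23255 11 = true := by decide +kernel

theorem parOk_12 : partChk (parChk) 23255 12 = true := by decide +kernel

theorem parOk_13 : partChk (parChk) 23255 13 = true := by decide +kernel

theorem parOk_14 : partChk (parChk) 23255 14 = true := by decide +kernel

theorem parOk_15 : partChk (parChk) 23255 15 = true := by decide +kernel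

theorem parOk_16 : partChk (parChk) 23255 16 = true := by decide +kernel

theorem parOk_17 : partChk (parChk) 23255 17 = true := by decide +kernel

theorem parOk_18 : partChk (parChk) 23255 18 = true := by decide +kernel

theorem parOk_19 : partChk (parChk) 23255 19 = true := by decide +kernel

theorem parOk_20 : partChk (parChk) 23255 20 = true := by decide +kernel

theorem parOk_21 : partChk (parChk) 23255 21 = true := by decide +kernel

theorem parOk_22 : partChk (parChk) 23255 22 = true := by decide +kernel

theorem parOk_23 : partChk (parChk) 23255 23 = true := by decide +kernel

end CfsgLib.J3
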