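import Cfsg.Agent.Lib.J3.Gens
import Cfsg.Agent.Lib.J3.Defs
import Cfsg.Agent.Lib.J3.ParCheck
import Cfsg.Agent.Lib.J3.RankCheck
import Cfsg.Agent.Lib.J3.TopCheck0
import Cfsg.Agent.Lib.J3.TopCheck1
import Cfsg.Agent.Lib.J3.HtabCheck

/-!
The order of the group generated by the defining matrices of the triple cover.
-/

set_option autoImplicit false
set_option maxRecDepth 20000

namespace CfsgLib.J3

open Cfsg.Spor Matrix CfsgLib.Golay
open scoped MatrixGroups

variable {F : Type*} [Field F] (K : Fld F)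

theorem Fld.finite (K : Fld F) : Finite F :=
  Finite.of_surjective (![0, 1, K.ω, 1 + K.ω] : Fin 4 → F) fun x => by
    rcases K.elems x with h | h | h | h
    exacts [⟨0, h.symm⟩, ⟨1, h.symm⟩, ⟨2, h.symm⟩, ⟨3, h.symm⟩]

/-- The group generated by the two elements. -/
def grpG : Subgroup (GL F9 F) := Subgroup.closure {val K codeX, val K codeY}

/-- The stabiliser of the first point. -/
def grpH : Subgroup (GL F9 F) := Bsgs.grp (ops K) tailLevels

theorem ok_gens : okM codeX = true ∧ okM codeY = true := by decide +kernel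

theorem ok_topGen (g : ℕ) : okM (topGen g) = true := by
  rw [topGen]; split_ifs
  exacts [ok_gens.1, ok_gens.2]

theorem topGen_mem (g : ℕ) : val K (topGen g) ∈ grpG K := by
  rw [topGen]; split_ifs
  exacts [Subgroup.subset_closure (Set.mem_insert _ _),
    Subgroup.subset_closure (Set.mem_insert_of_mem _ rfl)]

/-- An auxiliary field. -/
theorem exists_fld_aux : Nonempty (Fld (GaloisField 2 2)) := by
  haveI : Fact (Nat.Prime 2) := ⟨Nat.prime_two⟩
  haveI : Fintype (GaloisField 2 2) := Fintype.ofFinite _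
  have hF : Fintype.card (GaloisField 2 2) = 4 := by
    rw [Fintype.card_eq_nat_card, GaloisField.card 2 2 two_ne_zero]; norm_num
  classical
  obtain ⟨w, hw, hw0⟩ : ∃ w : GaloisField 2 2, w ≠ 1 ∧ w ≠ 0 := by
    obtain ⟨w, hw⟩ : ∃ w, w ∉ ({1, 0} : Finset (GaloisField 2 2)) := by
      by_contra h
      push_neg at h
      have h1 := Finset.card_le_card (s := (Finset.univ : Finset (GaloisField 2 2)))
        (t := {1, 0}) fun x _ => h x
      rw [Finset.card_univ, hF] at h1
      have h2 := Finset.card_le_two (a := (1 : GaloisField 2 2)) (b := 0)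
      omega
    exact ⟨w, by simpa [not_or] using hw⟩
  have h3 : w ^ 3 = 1 := by
    have := FiniteField.pow_card_sub_one_eq_one w hw0
    rwa [hF] at this
  have h : (w - 1) * (w ^ 2 + w + 1) = 0 := by linear_combination h3
  exact ⟨(exists_fld hF w ((mul_eq_zero.1 h).resolve_left (sub_ne_zero.2 hw))).choose⟩

/-- An auxiliary field structure. -/
noncomputable def K0 : Fld (GaloisField 2 2) := exists_fld_aux.some

theorem chain0 : Bsgs.check (ops K0) [2] tailLevels = true := by decide +kernel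

theorem chain_check : Bsgs.check (ops K) [2] tailLevels = true :=
  (check_congr K K0 _ _).trans chain0

theorem slp_congr {F' : Type*} [Field F'] (K' : Fld F') : ∀ (T : List ℕ)
    (st : List (ℕ × Bool × ℕ × ℕ)),
    Bsgs.slpCheck (ops K) T st = Bsgs.slpCheck (ops K') T st := by
  intro T st
  induction st generalizing T with
  | nil => rfl
  | cons e rest ih =>
    obtain ⟨c, iv, i, j⟩ := e
    simp only [Bsgs.slpCheck, ih]
    rfl

theorem slp0 : Bsgs.slpCheck (ops K0) [codeX, codeY] slp = true := by decide +kernel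

theorem allGens_slp :
    (Bsgs.allGens tailLevels).all ([codeX, codeY] ++ slp.map (·.1)).contains = true := by
  decide +kernel

theorem ptOk_two : ∀ f ∈ [2], ptOkC f = true := by decide +kernel

section
variable [Finite F]

theorem grpH_spec : Bsgs.Fixes (ops K) (grpH K) [2] ∧
    (∀ is, okM (Bsgs.prodReps (ops K) tailLevels is) = true ∧
      val K (Bsgs.prodReps (ops K) tailLevels is) ∈ grpH K) ∧ Nat.card (grpH K) = 6480 := by
  obtain ⟨h1, -, h3, h4, -⟩ := Bsgs.spec (ops K) ptOk_two (chain_check K)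
  refine ⟨h1, h3, ?_⟩
  rw [grpH, h4]
  decide +kernel

theorem grpH_le : grpH K ≤ grpG K := by
  have hb : ∀ c ∈ [codeX, codeY], (ops K).ok c = true ∧ (ops K).val c ∈ grpG K := by
    intro c hc
    simp only [List.mem_cons, List.not_mem_nil, or_false] at hc
    show okM c = true ∧ val K c ∈ grpG K
    rcases hc with rfl | rfl
    · exact ⟨ok_gens.1, Subgroup.subset_closure (Set.mem_insert _ _)⟩
    · exact ⟨ok_gens.2, Subgroup.subset_closure (Set.mem_insert_of_mem _ rfl)⟩
  have hs := Bsgs.slp_sound (ops K) (grpG K) ((slp_congr K K0 _ _).trans slp0) hb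
  refine (Subgroup.closure_le _).2 ?_
  rintro _ ⟨r, hr, rfl⟩
  have := allGens_slp
  simp only [List.all_eq_true, List.contains_iff_mem] at this
  exact (hs r (this r hr)).2

theorem htab_spec {m : ℕ} (hm : m < 6249) : okM (htab m) = true ∧ val K (htab m) ∈ grpH K := by
  have h : htabChk m = true := of_part (m := 7) (fun s hs => by
    interval_cases s
    exacts [htabOk_0, htabOk_1, htabOk_2, htabOk_3, htabOk_4, htabOk_5, htabOk_6]) (by norm_num) hm
  simp only [htabChk, Nat.beq_eq] at h
  rw [h]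
  exact (grpH_spec K).2.1 [_, _, _]

end

theorem parChk_all {k : ℕ} (hk : k < 23255) : parChk k = true := of_part (m := 24) (fun s hs => by
  interval_cases s
  exacts [parOk_0, parOk_1, parOk_2, parOk_3, parOk_4, parOk_5, parOk_6, parOk_7, parOk_8, parOk_9,
    parOk_10, parOk_11, parOk_12, parOk_13, parOk_14, parOk_15, parOk_16, parOk_17, parOk_18,
    parOk_19, parOk_20, parOk_21, parOk_22, parOk_23]) (by norm_num) hk

theorem rankChk_all {i : ℕ} (hi : i < 23256) : rankChk i = true := of_part (m := 24) (fun s hs => by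
  interval_cases s
  exacts [rankOk_0, rankOk_1, rankOk_2, rankOk_3, rankOk_4, rankOk_5, rankOk_6, rankOk_7, rankOk_8,
    rankOk_9, rankOk_10, rankOk_11, rankOk_12, rankOk_13, rankOk_14, rankOk_15, rankOk_16,
    rankOk_17, rankOk_18, rankOk_19, rankOk_20, rankOk_21, rankOk_22, rankOk_23]) (by norm_num) hi

theorem topChk_all {g i : ℕ} (hg : g < 2) (hi : i < 23256) : topChk g i = true := by
  interval_cases g
  · exact of_part (m := 24) (fun s hs => by
      interval_cases s
      exacts [topOk0_0, topOk0_1, topOk0_2, topOk0_3, topOk0_4, topOk0_5, topOk0_6, topOk0_7,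
        topOk0_8, topOk0_9, topOk0_10, topOk0_11, topOk0_12, topOk0_13, topOk0_14, topOk0_15,
        topOk0_16, topOk0_17, topOk0_18, topOk0_19, topOk0_20, topOk0_21, topOk0_22, topOk0_23])
      (by norm_num) hi
  · exact of_part (m := 24) (fun s hs => by
      interval_cases s
      exacts [topOk1_0, topOk1_1, topOk1_2, topOk1_3, topOk1_4, topOk1_5, topOk1_6, topOk1_7,
        topOk1_8, topOk1_9, topOk1_10, topOk1_11, topOk1_12, topOk1_13, topOk1_14, topOk1_15,
        topOk1_16, topOk1_17, topOk1_18, topOk1_19, topOk1_20, topOk1_21, topOk1_22, topOk1_23])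
      (by norm_num) hi

theorem rep_zero : rep 0 = oneM := by decide +kernel

theorem rep_spec : ∀ i, i < 23256 → okM (rep i) = true ∧ val K (rep i) ∈ grpG K := by
  intro i
  induction i using Nat.strong_induction_on with
  | h i ih =>
    intro hi
    rcases i with _ | k
    · rw [rep_zero, val_oneM]
      exact ⟨ok_oneM, Subgroup.one_mem _⟩
    · have h := parChk_all (show k < 23255 by omega)
      simp only [parChk, Bool.and_eq_true, Nat.blt_eq, Nat.ble_eq, Nat.beq_eq] at h
      obtain ⟨⟨-, h2⟩, h3⟩ := h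
      obtain ⟨h4, h5⟩ := ih (parOf k % 32768) (by omega) (by omega)
      rw [h3, val_mulM K (ok_topGen _) h4]
      exact ⟨ok_mulM (ok_topGen _) h4 K, Subgroup.mul_mem _ (topGen_mem K _) h5⟩

theorem ok_rep {i : ℕ} (hi : i < 23256) (K : Fld F) : okM (rep i) = true := (rep_spec K i hi).1

/-! ### The lines of the first columns -/

theorem xor_cancel (a b : ℕ) : b ^^^ (a ^^^ b) = a := by
  rw [Nat.xor_comm a b, ← Nat.xor_assoc, Nat.xor_self, Nat.zero_xor]

theorem keyP_rot (a b : ℕ) : keyP b (a ^^^ b) = keyP a b := by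
  simp only [keyP, xor_cancel]
  generalize a + 512 * b = p
  generalize b + 512 * (a ^^^ b) = q
  generalize (a ^^^ b) + 512 * a = r
  show min q (min r p) = min p (min q r)
  omega

theorem packBits_xor (x y : ℕ → Bool) :
    packBits (fun i => xor (x i) (y i)) = packBits x ^^^ packBits y := by
  refine Nat.eq_of_testBit_eq fun j => ?_
  by_cases hj : j < 9
  · rw [Nat.testBit_xor, packBits_testBit _ hj, packBits_testBit _ hj, packBits_testBit _ hj]
  · have h : ∀ z : ℕ → Bool, (packBits z).testBit j = false := fun z =>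
      Nat.testBit_lt_two_pow (lt_of_lt_of_le (packBits_lt z)
        (Nat.pow_le_pow_right (by norm_num : 0 < 2) (show 9 ≤ j by omega)))
    rw [Nat.testBit_xor, h, h, h]
    rfl

theorem packBits_congr {x y : ℕ → Bool} (h : ∀ i < 9, x i = y i) : packBits x = packBits y := by
  simp [packBits, h]

theorem toMat_one_apply : toMat K 1 = Matrix.single (0 : F9) (0 : F9) 1 := by
  ext i j
  have h : ∀ i j : F9, ((1 : ℕ).testBit (9 * ix i + ix j) = decide (i = 0 ∧ j = 0)) ∧
      (1 : ℕ).testBit (81 + (9 * ix i + ix j)) = false := by decide +kernel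
  simp only [toMat, (h i j).1, (h i j).2, Matrix.single_apply]
  by_cases h0 : i = 0 ∧ j = 0
  · obtain ⟨rfl, rfl⟩ := h0
    simp [val2]
  · rw [decide_eq_false h0, if_neg (fun e => h0 ⟨e.1.symm, e.2.symm⟩)]
    simp [val2]

theorem ptC_two : ptC K 2 = Sum.inl ⟨Matrix.single (0 : F9) (0 : F9) 1⟩ := by
  rw [ptC, if_pos (by norm_num), ← toMat_one_apply K]

theorem fix_single {g : GL F9 F} (h : g • ptC K 2 = ptC K 2) :
    g.val * Matrix.single (0 : F9) (0 : F9) 1 = Matrix.single (0 : F9) (0 : F9) 1 * g.val := by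
  rw [ptC_two] at h
  have h' : g.val * Matrix.single (0 : F9) (0 : F9) 1 * (g⁻¹ : GL F9 F).val =
      Matrix.single (0 : F9) (0 : F9) 1 := congrArg Cj.m (Sum.inl.inj h)
  conv_rhs => rw [← h']
  simp [Matrix.mul_assoc]

theorem single_apply_col (M : Matrix F9 F9 F) (i : F9) :
    (M * Matrix.single (0 : F9) (0 : F9) (1 : F)) i 0 = M i 0 := by
  simp [Matrix.mul_apply, Matrix.single_apply]

theorem col_scalar {g : GL F9 F} (h : g • ptC K 2 = ptC K 2) {i : F9} (hi : i ≠ 0) :
    g.val i 0 = 0 ∧ g.val 0 i = 0 := by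
  have h' := fix_single K h
  constructor
  · have := congrFun (congrFun h' i) 0
    rw [single_apply_col] at this
    rw [this]
    simp [Matrix.mul_apply, Matrix.single_apply, Ne.symm hi]
  · have := congrFun (congrFun h' 0) i
    simp [Matrix.mul_apply, Matrix.single_apply, Ne.symm hi] at this
    exact this.symm

theorem ix_zero : ix (0 : F9) = 0 := rfl

theorem ix_symm {i : ℕ} (hi : i < 9) : ix (e9.symm ⟨i, hi⟩) = i :=
  congrArg Fin.val (e9.apply_symm_apply ⟨i, hi⟩)

theorem toMat_col (A : ℕ) {i : ℕ} (hi : i < 9) :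
    toMat K A (e9.symm ⟨i, hi⟩) 0 = val2 K (A.testBit (9 * i)) (A.testBit (81 + 9 * i)) := by
  simp only [toMat, ix_symm, ix_zero, Nat.add_zero]

theorem keyA_eq {a b : ℕ} (ha : okM a = true) (hb : okM b = true)
    (h : val K a • ptC K 2 = val K b • ptC K 2) : keyA a = keyA b := by
  have h1 : ((val K b)⁻¹ * val K a) • ptC K 2 = ptC K 2 := by
    rw [mul_smul, h, inv_smul_smul]
  set g := (val K b)⁻¹ * val K a with hg
  have hmat : toMat K a = toMat K b * g.val := by
    rw [← val_coe K hb, ← Units.val_mul, hg, mul_inv_cancel_left, val_coe K ha]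
  obtain ⟨m, hm⟩ : ∃ m, m = mulM (ctM b) a := ⟨_, rfl⟩
  have hgv : g.val = toMat K m := by
    rw [hg, Units.val_mul, val_inv K hb, val_coe K ha, hm, toMat_mulM]
  have hcol : ∀ i, ∀ (hi : i < 9), val2 K (a.testBit (9 * i)) (a.testBit (81 + 9 * i)) =
      val2 K (b.testBit (9 * i)) (b.testBit (81 + 9 * i)) *
        val2 K (m.testBit 0) (m.testBit 81) := by
    intro i hi
    rw [← toMat_col K a hi, ← toMat_col K b hi, hmat, Matrix.mul_apply, Finset.sum_eq_single 0]
    · rw [hgv]
      simp [toMat, ix_zero]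
    · intro j _ hj
      rw [(col_scalar K h1 hj).1, mul_zero]
    · simp
  simp only [val2_mul] at hcol
  cases hm0 : m.testBit 0 <;> cases hm1 : m.testBit 81
  · exfalso
    have h00 : g.val 0 0 = 0 := by
      rw [hgv]; simp [toMat, ix_zero, hm0, hm1, val2]
    have := congrFun (congrFun (Units.inv_mul g) 0) 0
    rw [Matrix.mul_apply, Finset.sum_eq_single 0 (fun j _ hj => by
      rw [(col_scalar K h1 hj).1, mul_zero]) (by simp), h00, mul_zero, Matrix.one_apply_eq] at this
    exact zero_ne_one this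
  all_goals
    have he := fun i hi => val2_inj K (hcol i hi)
    simp only [hm0, hm1, Bool.and_true, Bool.and_false, Bool.xor_false, Bool.false_xor,
      Bool.xor_true, Bool.not_false, Bool.not_true] at he
  · -- multiplication by the cube root
    have e1 : col0a a = col0b b := packBits_congr fun i hi => (he i hi).1
    have e2 : col0b a = col0a b ^^^ col0b b := by
      rw [col0a, col0b, col0b, ← packBits_xor]
      exact packBits_congr fun i hi => (he i hi).2
    rw [keyA, keyA, e1, e2]
    exact keyP_rot _ _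
  · have e1 : col0a a = col0a b := packBits_congr fun i hi => (he i hi).1
    have e2 : col0b a = col0b b := packBits_congr fun i hi => (he i hi).2
    rw [keyA, keyA, e1, e2]
  · have e1 : col0a a = col0a b ^^^ col0b b :=
      (packBits_congr fun i hi => (he i hi).1).trans (packBits_xor _ _)
    have e2 : col0b a = col0a b := packBits_congr fun i hi => by
      rw [(he i hi).2]
    rw [keyA, keyA, e1, e2, ← keyP_rot (col0a b ^^^ col0b b) (col0a b),
      Nat.xor_comm (col0a b ^^^ col0b b) (col0a b), ← Nat.xor_assoc, Nat.xor_self, Nat.zero_xor]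

theorem srt_strictMono {r s : ℕ} (h : r < s) (hs : s < 23256) : srt r < srt s := by
  induction s with
  | zero => omega
  | succ s ih =>
    have hstep : srt s < srt (s + 1) := by
      have h' := rankChk_all (show s < 23256 by omega)
      simp only [rankChk, Bool.and_eq_true, Bool.or_eq_true, Nat.blt_eq, Nat.beq_eq] at h'
      rcases h'.2 with h2 | h2
      · exact h2
      · omega
    rcases Nat.lt_or_eq_of_le (Nat.lt_succ_iff.1 h) with h1 | h1
    · exact (ih h1 (by omega)).trans hstep
    · exact h1 ▸ hstep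

theorem keyA_inj {i j : ℕ} (hi : i < 23256) (hj : j < 23256) (h : keyA (rep i) = keyA (rep j)) :
    i = j := by
  have h1 := rankChk_all hi
  have h2 := rankChk_all hj
  simp only [rankChk, Bool.and_eq_true, Bool.or_eq_true, Nat.blt_eq, Nat.beq_eq] at h1 h2
  obtain ⟨⟨⟨a1, b1⟩, c1⟩, -⟩ := h1
  obtain ⟨⟨⟨a2, b2⟩, c2⟩, -⟩ := h2
  have e : rankOf i = rankOf j := by
    rcases lt_trichotomy (rankOf i) (rankOf j) with h' | h' | h'
    · have := srt_strictMono h' a2
      omega
    · exact h'
    · have := srt_strictMono h' a1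
      omega
  rw [← b1, ← b2, e]

section
variable [Finite F]

theorem grpH_fix {h : GL F9 F} (hh : h ∈ grpH K) : h • ptC K 2 = ptC K 2 :=
  (grpH_spec K).1 h hh 2 (by simp)

theorem transversal_inj {i j : ℕ} (hi : i < 23256) (hj : j < 23256) {h h' : GL F9 F}
    (hh : h ∈ grpH K) (hh' : h' ∈ grpH K) (e : val K (rep i) * h = val K (rep j) * h') :
    i = j ∧ h = h' := by
  have e' := congrArg (· • ptC K 2) e
  simp only [mul_smul, grpH_fix K hh, grpH_fix K hh'] at e'
  obtain rfl := keyA_inj hi hj (keyA_eq K (ok_rep hi K) (ok_rep hj K) e')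
  exact ⟨rfl, mul_left_cancel e⟩

theorem exists_decomp {g : GL F9 F} (hg : g ∈ grpG K) :
    ∃ i < 23256, ∃ h ∈ grpH K, g = val K (rep i) * h := by
  refine Bsgs.closure_le_of_left_mul (X := {g | ∃ i < 23256, ∃ h ∈ grpH K, g = val K (rep i) * h})
    ⟨0, by norm_num, 1, Subgroup.one_mem _, by rw [rep_zero, val_oneM, mul_one]⟩ ?_ hg
  have step : ∀ c, c < 2 → ∀ i < 23256, ∀ h ∈ grpH K,
      ∃ j < 23256, ∃ h' ∈ grpH K, val K (topGen c) * (val K (rep i) * h) = val K (rep j) * h' := by
    intro c hc i hi h hh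
    have ht := topChk_all hc hi
    simp only [topChk, Bool.and_eq_true, Nat.blt_eq, Nat.beq_eq] at ht
    obtain ⟨⟨h1, h2⟩, h3⟩ := ht
    obtain ⟨h4, h5⟩ := htab_spec K h2
    refine ⟨_, h1, _, Subgroup.mul_mem _ h5 hh, ?_⟩
    rw [← mul_assoc, ← val_mulM K (ok_topGen _) (ok_rep hi K), h3,
      val_mulM K (ok_rep h1 K) h4, mul_assoc]
  rintro s hs _ ⟨i, hi, h, hh, rfl⟩
  rcases hs with rfl | rfl
  · exact step 0 (by norm_num) i hi h hh
  · exact step 1 (by norm_num) i hi h hh

theorem decomp_mem {i : ℕ} (hi : i < 23256) {h : GL F9 F} (hh : h ∈ grpH K) :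
    val K (rep i) * h ∈ grpG K :=
  Subgroup.mul_mem _ (rep_spec K i hi).2 (grpH_le K hh)

theorem card_grpG : Nat.card (grpG K) = 150698880 := by
  rw [show (150698880 : ℕ) = 23256 * 6480 by norm_num, ← (grpH_spec K).2.2, ← Nat.card_fin 23256,
    ← Nat.card_prod]
  symm
  refine Nat.card_eq_of_bijective (fun x : Fin 23256 × grpH K =>
    (⟨val K (rep x.1.val) * x.2.val, decomp_mem K x.1.isLt x.2.2⟩ : grpG K)) ⟨?_, ?_⟩
  · rintro ⟨i, h⟩ ⟨j, h'⟩ e
    obtain ⟨e1, e2⟩ := transversal_inj K i.isLt j.isLt h.2 h'.2 (congrArg Subtype.val e)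
    exact Prod.ext (Fin.ext e1) (Subtype.ext e2)
  · rintro ⟨g, hg⟩
    obtain ⟨i, hi, h, hh, rfl⟩ := exists_decomp K hg
    exact ⟨(⟨i, hi⟩, ⟨h, hh⟩), rfl⟩

/-- Every element is the value of a code. -/
theorem exists_code {g : GL F9 F} (hg : g ∈ grpG K) : ∃ A, okM A = true ∧ val K A = g := by
  refine Bsgs.closure_le_of_left_mul (X := {g | ∃ A, okM A = true ∧ val K A = g})
    ⟨oneM, ok_oneM, val_oneM K⟩ ?_ hg
  rintro s hs _ ⟨A, hA, rfl⟩
  rcases hs with rfl | rfl
  · exact ⟨_, ok_mulM ok_gens.1 hA K, val_mulM K ok_gens.1 hA⟩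
  · exact ⟨_, ok_mulM ok_gens.2 hA K, val_mulM K ok_gens.2 hA⟩

end

theorem table_in_grpG : genTable.all (fun e => e.2.2.2.1.blt 23256 &&
    e.2.2.1.beq (mulM (rep e.2.2.2.1)
      (prod3 (e.2.2.2.2.getD 0 0) (e.2.2.2.2.getD 1 0) (e.2.2.2.2.getD 2 0)))) = true := by
  decide +kernel

theorem gens_in_table : ([codeX, codeY].all fun c => genTable.any fun e => genTable.any fun f =>
    c.beq (mulM e.2.2.1 f.2.2.1)) = true := by
  decide +kernel

theorem threeJ3_eq_grpG [Finite F] : threeJ3 F K.ω = grpG K := by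
  have hok := genTable_kinds.2.2
  have ht := table_in_grpG
  simp only [List.all_eq_true, Bool.and_eq_true, Nat.blt_eq, Nat.beq_eq] at hok ht
  refine le_antisymm ?_ ?_
  · rw [threeJ3_eq, Subgroup.closure_le]
    rintro _ ⟨e, he, rfl⟩
    obtain ⟨h1, h2⟩ := ht e he
    obtain ⟨h3, h4⟩ := (grpH_spec K).2.1
      [e.2.2.2.2.getD 0 0, e.2.2.2.2.getD 1 0, e.2.2.2.2.getD 2 0]
    rw [h2, SetLike.mem_coe]
    refine (val_mulM K (ok_rep h1 K) h3).symm ▸ ?_
    exact decomp_mem K h1 h4
  · rw [grpG, threeJ3_eq, Subgroup.closure_le]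
    have hg := gens_in_table
    simp only [List.all_eq_true, List.any_eq_true, Nat.beq_eq] at hg
    intro g hgm
    obtain ⟨c, hc, rfl⟩ : ∃ c ∈ [codeX, codeY], val K c = g := by
      rcases hgm with rfl | rfl
      exacts [⟨codeX, by simp, rfl⟩, ⟨codeY, by simp, rfl⟩]
    obtain ⟨e, he, f, hf, rfl⟩ := hg c hc
    rw [SetLike.mem_coe, val_mulM K (hok e he) (hok f hf)]
    exact Subgroup.mul_mem _ (Subgroup.subset_closure ⟨e, he, rfl⟩)
      (Subgroup.subset_closure ⟨f, hf, rfl⟩)

end CfsgLib.J3
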