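import Cfsg.Agent.Lib.J3.Cent
import Cfsg.Agent.Lib.Golay.SimpleCriterion

/-!
The centre of the triple cover and the simplicity of the quotient.
-/

set_option autoImplicit false
set_option maxRecDepth 20000

namespace CfsgLib.J3

open Cfsg.Spor Matrix CfsgLib.Golay
open scoped MatrixGroups

variable {F : Type*} [Field F] (K : Fld F)

/-- The power of a code. -/
def powM (A : ℕ) : ℕ → ℕ
  | 0 => oneM
  | n + 1 => mulM A (powM A n)

theorem powM_spec {A : ℕ} (hA : okM A = true) : ∀ n : ℕ,
    okM (powM A n) = true ∧ val K (powM A n) = val K A ^ n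
  | 0 => ⟨ok_oneM, by rw [powM, pow_zero, val_oneM]⟩
  | n + 1 => by
    obtain ⟨h1, h2⟩ := powM_spec hA n
    exact ⟨ok_mulM hA h1 K, by rw [powM, val_mulM K hA h1, h2, pow_succ']⟩

theorem relations : powM codeX 8 = oneM ∧ powM codeY 4 = oneM ∧
    powM (mulM (powM codeX 4) codeY) 9 = oneM ∧ powM (mulM codeX codeY) 51 = oneM := by
  decide +kernel

/-- The defining elements of the group as elements of the subgroup. -/
def genX : grpG K := ⟨val K codeX, Subgroup.subset_closure (by simp)⟩

/-- The second generator. -/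
def genY : grpG K := ⟨val K codeY, Subgroup.subset_closure (by simp)⟩

theorem hom_trivial {A : Type*} [CommGroup A] (f : grpG K →* A) (g : grpG K) : f g = 1 := by
  obtain ⟨r1, r2, r3, r4⟩ := relations
  have hX := ok_gens.1
  have hY := ok_gens.2
  have p4 := powM_spec K hX 4
  have hx : genX K ^ 8 = 1 := Subtype.ext (by
    simp only [SubmonoidClass.coe_pow, genX, OneMemClass.coe_one]
    rw [← (powM_spec K hX 8).2, r1, val_oneM])
  have hy : genY K ^ 4 = 1 := Subtype.ext (by
    simp only [SubmonoidClass.coe_pow, genY, OneMemClass.coe_one]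
    rw [← (powM_spec K hY 4).2, r2, val_oneM])
  have h9 : (genX K ^ 4 * genY K) ^ 9 = 1 := Subtype.ext (by
    simp only [SubmonoidClass.coe_pow, Subgroup.coe_mul, genX, genY, OneMemClass.coe_one]
    rw [← p4.2, ← val_mulM K p4.1 hY, ← (powM_spec K (ok_mulM p4.1 hY K) 9).2, r3, val_oneM])
  have h51 : (genX K * genY K) ^ 51 = 1 := Subtype.ext (by
    simp only [SubmonoidClass.coe_pow, Subgroup.coe_mul, genX, genY, OneMemClass.coe_one]
    rw [← val_mulM K hX hY, ← (powM_spec K (ok_mulM hX hY K) 51).2, r4, val_oneM])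
  have e8 : f (genX K) ^ 8 = 1 := by rw [← map_pow, hx, map_one]
  have e4 : f (genY K) ^ 4 = 1 := by rw [← map_pow, hy, map_one]
  have e9' : (f (genX K) ^ 4 * f (genY K)) ^ 9 = 1 := by
    rw [← map_pow, ← map_mul, ← map_pow, h9, map_one]
  have e51 : (f (genX K) * f (genY K)) ^ 51 = 1 := by rw [← map_mul, ← map_pow, h51, map_one]
  generalize hxd : f (genX K) = x at e8 e9' e51
  generalize hyd : f (genY K) = y at e4 e9' e51
  have hb : x ^ 4 * y = 1 := by
    have e36 : x ^ (4 * 9) = x ^ 4 := by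
      rw [show 4 * 9 = 8 * 4 + 4 by norm_num, pow_add, pow_mul, e8, one_pow, one_mul]
    have e99 : y ^ 9 = y := by
      rw [show 9 = 4 * 2 + 1 by norm_num, pow_succ, pow_mul, e4, one_pow, one_mul]
    rwa [mul_pow, ← pow_mul, e36, e99] at e9'
  have hy4 : y = x ^ 4 := by
    calc y = x ^ 8 * y := by rw [e8, one_mul]
      _ = x ^ 4 * (x ^ 4 * y) := by rw [← mul_assoc, ← pow_add]
      _ = x ^ 4 := by rw [hb, mul_one]
  have hx1 : x = 1 := by
    rw [hy4, ← pow_succ', ← pow_mul] at e51
    have e255 : x ^ (8 * 31 + 7) = 1 := by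
      rw [show 8 * 31 + 7 = (4 + 1) * 51 by norm_num]; exact e51
    rw [pow_add, pow_mul, e8, one_pow, one_mul] at e255
    rwa [pow_succ, e255, one_mul] at e8
  have hy1 : y = 1 := by rw [hy4, hx1, one_pow]
  have hle : grpG K ≤ f.ker.map (grpG K).subtype := by
    refine (Subgroup.closure_le _).2 ?_
    rintro _ (rfl | rfl)
    · exact ⟨genX K, by rw [SetLike.mem_coe, MonoidHom.mem_ker, hxd, hx1], rfl⟩
    · exact ⟨genY K, by rw [SetLike.mem_coe, MonoidHom.mem_ker, hyd, hy1], rfl⟩
  obtain ⟨g', hg', e⟩ := hle g.2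
  rw [← show g' = g from Subtype.ext e]
  exact hg'

theorem grpG_perfect : commutator (grpG K) = ⊤ := by
  rw [← Abelianization.ker_of, eq_top_iff]
  intro g _
  exact hom_trivial K Abelianization.of g

theorem det_eq_one {g : GL F9 F} (hg : g ∈ grpG K) : g.val.det = 1 := by
  have := hom_trivial K ((Matrix.GeneralLinearGroup.det).comp (grpG K).subtype) ⟨g, hg⟩
  rw [MonoidHom.comp_apply, Subgroup.coe_subtype] at this
  rw [← Matrix.GeneralLinearGroup.val_det_apply, this, Units.val_one]

section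
variable [Finite F]

theorem scal_mem {s : ℕ} (hs : s ∈ scalList) : val K s ∈ grpG K := by
  have hom : val K omCode ∈ grpG K := by
    rw [show omCode = mulM (rep 0) (Bsgs.prodReps (ops K) tailLevels [0, 0, 3]) from
      (show omCode = mulM (rep 0) (prod3 0 0 3) by decide +kernel)]
    obtain ⟨h1, h2⟩ := (grpH_spec K).2.1 [0, 0, 3]
    rw [val_mulM K (ok_rep (by norm_num) K) h1]
    exact decomp_mem K (by norm_num) h2
  have hok : okM omCode = true := List.all_eq_true.1 scalList_ok omCode (by simp [scalList])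
  simp only [scalList, List.mem_cons, List.not_mem_nil, or_false] at hs
  rcases hs with rfl | rfl | rfl
  · rw [val_oneM]; exact Subgroup.one_mem _
  · exact hom
  · rw [val_mulM K hok hok]; exact Subgroup.mul_mem _ hom hom

theorem scal_central {s : ℕ} (hs : s ∈ scalList) (g : GL F9 F) :
    g * val K s = val K s * g := by
  refine Units.ext ?_
  rw [Units.val_mul, Units.val_mul, val_coe K (List.all_eq_true.1 scalList_ok s hs),
    toMat_scal K hs, smul_mul_assoc, Matrix.one_mul, Matrix.mul_smul, Matrix.mul_one]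

theorem powX_not_central : ((List.range 18).all fun k =>
    !(mulM (powX (k + 1)) codeX).beq (mulM codeX (powX (k + 1)))) = true := by
  decide +kernel

theorem center_eq {g : grpG K} :
    g ∈ Subgroup.center (grpG K) ↔ ∃ s ∈ scalList, g.val = val K s := by
  constructor
  · intro hg
    rw [Subgroup.mem_center_iff] at hg
    obtain ⟨s, hs, j, hj, e⟩ := cent_elt19 K g.2
      (congrArg Subtype.val (hg ⟨_, xElt_mem K⟩)).symm
    refine ⟨s, hs, ?_⟩
    rcases j with _ | k
    · simpa using e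
    exfalso
    have h1 : g.val * val K codeX = val K codeX * g.val :=
      (congrArg Subtype.val (hg (genX K))).symm
    rw [e, ← mul_assoc, scal_central K hs, mul_assoc, mul_assoc] at h1
    have h2 := mul_left_cancel h1
    obtain ⟨hk1, hk2⟩ := powX_spec K hj
    rw [← hk2, ← val_mulM K hk1 ok_gens.1, ← val_mulM K ok_gens.1 hk1] at h2
    have h3 := congrArg Units.val h2
    rw [val_coe K (ok_mulM hk1 ok_gens.1 K), val_coe K (ok_mulM ok_gens.1 hk1 K)] at h3
    have h4 := toMat_inj K (mulM_lt _ _) (mulM_lt _ _) h3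
    have h5 := List.all_eq_true.1 powX_not_central k (List.mem_range.2 (by omega))
    rw [h4] at h5
    simp at h5
  · rintro ⟨s, hs, e⟩
    rw [Subgroup.mem_center_iff]
    intro h
    exact Subtype.ext (by rw [Subgroup.coe_mul, Subgroup.coe_mul, e, scal_central K hs])

theorem card_center : Nat.card (Subgroup.center (grpG K)) = 3 := by
  have hnd : scalList.Nodup := by decide +kernel
  have hlen : scalList.length = 3 := rfl
  refine Eq.trans ?_ ((Nat.card_fin scalList.length).trans hlen)
  symm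
  refine Nat.card_eq_of_bijective (fun i : Fin scalList.length =>
    (⟨⟨val K scalList[i], scal_mem K (List.getElem_mem _)⟩,
      (center_eq K).2 ⟨_, List.getElem_mem _, rfl⟩⟩ : Subgroup.center (grpG K))) ⟨?_, ?_⟩
  · intro i j e
    have hi := List.all_eq_true.1 scalList_ok _ (List.getElem_mem (l := scalList) i.isLt)
    have hj := List.all_eq_true.1 scalList_ok _ (List.getElem_mem (l := scalList) j.isLt)
    have e' : val K scalList[i] = val K scalList[j] :=
      congrArg (fun z : Subgroup.center (grpG K) => z.val.val) e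
    have e'' := congrArg Units.val e'
    erw [val_coe K hi, val_coe K hj] at e''
    exact Fin.ext ((hnd.getElem_inj_iff).1 (toMat_inj K (ok_spec K hi).1 (ok_spec K hj).1 e''))
  · rintro ⟨g, hg⟩
    obtain ⟨s, hs, e⟩ := (center_eq K).1 hg
    obtain ⟨i, hi, rfl⟩ := List.getElem_of_mem hs
    exact ⟨⟨i, hi⟩, Subtype.ext (Subtype.ext e.symm)⟩

theorem card_quotient : Nat.card (grpG K ⧸ Subgroup.center (grpG K)) = 50232960 := by
  have h := Subgroup.card_eq_card_quotient_mul_card_subgroup (Subgroup.center (grpG K))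
  rw [card_grpG, card_center] at h
  omega

theorem dvd_table : ∀ a : Fin 8, ∀ b : Fin 6, ∀ c d : Fin 2,
    2 ^ a.val % 19 = 1 → 3 ^ b.val % 19 = 1 → 5 ^ c.val % 19 = 1 → 17 ^ d.val % 19 = 1 →
      a.val = 0 ∧ b.val = 0 ∧ c.val = 0 ∧ d.val = 0 := by
  decide +kernel

theorem elt19_ne : elt19 ≠ oneM := by decide +kernel

theorem quotient_simple : IsSimpleGroup (grpG K ⧸ Subgroup.center (grpG K)) := by
  haveI : Fact (Nat.Prime 19) := ⟨by norm_num⟩
  set x : grpG K := ⟨xElt K, xElt_mem K⟩ with hxdef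
  have hx19 : x ^ 19 = 1 := Subtype.ext (by
    rw [SubmonoidClass.coe_pow, OneMemClass.coe_one]; exact xElt_pow K)
  have hz3 : ∀ z ∈ Subgroup.center (grpG K), z ^ 3 = 1 := fun z hz => by
    have h := pow_card_eq_one' (G := Subgroup.center (grpG K)) (x := ⟨z, hz⟩)
    rw [card_center] at h
    exact congrArg Subtype.val h
  have h3_19 : ∀ z : grpG K, z ^ 3 = 1 → z ^ 19 = 1 → z = 1 := fun z h3 h19 => by
    rwa [show 19 = 3 * 6 + 1 from rfl, pow_succ, pow_mul, h3, one_pow, one_mul] at h19
  have hxne : x ≠ 1 := fun h => by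
    have h1 := congrArg (fun z : grpG K => z.val.val) h
    simp only [hxdef, OneMemClass.coe_one, Units.val_one, xElt, val_coe K elt19_ok.1] at h1
    exact elt19_ne (toMat_inj K (ok_spec K elt19_ok.1).1 oneM_lt (h1.trans (toMat_oneM K).symm))
  let π := QuotientGroup.mk' (Subgroup.center (grpG K))
  have hord : orderOf (π x) = 19 := by
    refine orderOf_eq_prime ?_ fun h => ?_
    · rw [← map_pow, hx19, map_one]
    · exact hxne (h3_19 x (hz3 x ((QuotientGroup.eq_one_iff x).1 h)) hx19)
  have hcent : ∀ q : grpG K ⧸ Subgroup.center (grpG K), q * π x = π x * q →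
      q ∈ Subgroup.zpowers (π x) := by
    intro q hq
    obtain ⟨g, rfl⟩ := QuotientGroup.mk'_surjective (Subgroup.center (grpG K)) q
    rw [← map_mul, ← map_mul] at hq
    obtain ⟨z, hz, e⟩ := (QuotientGroup.mk'_eq_mk' _).1 hq
    have hzc : Commute x z := (Subgroup.mem_center_iff.1 hz x)
    have e2 : g⁻¹ * x * g = x * z := by
      rw [mul_assoc, ← e]; group
    have e3 := congrArg (· ^ 19) e2
    simp only [hzc.mul_pow, hx19, one_mul] at e3
    have e4 : (g⁻¹ * x * g) ^ 19 = 1 := by
      have := conj_pow (i := 19) (a := g⁻¹) (b := x)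
      rw [inv_inv] at this
      rw [this, hx19, mul_one, inv_mul_cancel]
    have hz1 : z = 1 := h3_19 z (hz3 z hz) (e3.symm.trans e4)
    rw [hz1, mul_one] at e
    obtain ⟨s, hs, j, -, e5⟩ := cent_elt19 K g.2 (congrArg Subtype.val e)
    refine Subgroup.mem_zpowers_iff.2 ⟨j, ?_⟩
    rw [zpow_natCast, ← map_pow]
    refine ((QuotientGroup.mk'_eq_mk' _).2 ⟨⟨val K s, scal_mem K hs⟩,
      (center_eq K).2 ⟨s, hs, rfl⟩, Subtype.ext ?_⟩)
    rw [Subgroup.coe_mul, SubmonoidClass.coe_pow, scal_central K hs, e5]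
  refine SimpleCrit.isSimple hord hcent ?_ ?_ fun N hN hp => ?_
  · rw [card_quotient K]; norm_num
  · have h := Subgroup.map_commutator ⊤ ⊤ π
    rw [← MonoidHom.range_eq_map,
      MonoidHom.range_eq_top.2 (QuotientGroup.mk'_surjective _), ← commutator_def, ← commutator_def,
      grpG_perfect, ← MonoidHom.range_eq_map,
      MonoidHom.range_eq_top.2 (QuotientGroup.mk'_surjective _)] at h
    exact h.symm
  haveI := hN
  have hdvd : Nat.card N ∣ 50232960 := card_quotient K ▸ Subgroup.card_subgroup_dvd_card N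
  have key : ∀ q : ℕ, q.Prime → q ^ (Nat.card N).factorization q % 19 = 1 ∧
      (Nat.card N).factorization q ≤ (50232960 : ℕ).factorization q := fun q hq =>
    haveI := Fact.mk hq
    ⟨SimpleCrit.part_modEq hord hcent hp,
      (Nat.factorization_le_iff_dvd Nat.card_pos.ne' (by norm_num)).2 hdvd q⟩
  obtain ⟨a, ha, b, hb, c, hc, d, hd, hN'⟩ : ∃ a ≤ 7, ∃ b ≤ 5, ∃ c ≤ 1, ∃ d ≤ 1,
      Nat.card N = 2 ^ a * 3 ^ b * 5 ^ c * 17 ^ d := by
    have h2 : Nat.card N ∣ 2 ^ 7 * 3 ^ 5 * 5 ^ 1 * 17 ^ 1 := by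
      have hco : Nat.Coprime (Nat.card N) 19 :=
        ((Nat.Prime.coprime_iff_not_dvd (by norm_num)).2 hp).symm
      exact hco.dvd_of_dvd_mul_right (hdvd.trans (by norm_num))
    obtain ⟨n1, n2, h1, h17, e⟩ := exists_dvd_and_dvd_of_dvd_mul h2
    obtain ⟨n3, n4, h3, h5, e'⟩ := exists_dvd_and_dvd_of_dvd_mul h1
    obtain ⟨n5, n6, h5', h6, e''⟩ := exists_dvd_and_dvd_of_dvd_mul h3
    obtain ⟨a, ha, rfl⟩ := (Nat.dvd_prime_pow Nat.prime_two).1 h5'
    obtain ⟨b, hb, rfl⟩ := (Nat.dvd_prime_pow Nat.prime_three).1 h6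
    obtain ⟨c, hc, rfl⟩ := (Nat.dvd_prime_pow (by norm_num : Nat.Prime 5)).1 h5
    obtain ⟨d, hd, rfl⟩ := (Nat.dvd_prime_pow (by norm_num : Nat.Prime 17)).1 h17
    exact ⟨a, ha, b, hb, c, hc, d, hd, by rw [e, e', e'']⟩
  have hf : ∀ q : ℕ, q.Prime → (Nat.card N).factorization q =
      a * (Nat.factorization 2 q) + b * (Nat.factorization 3 q) + c * (Nat.factorization 5 q) +
        d * (Nat.factorization 17 q) := fun q _ => by
    rw [hN', Nat.factorization_mul (by positivity) (by positivity),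
      Nat.factorization_mul (by positivity) (by positivity),
      Nat.factorization_mul (by positivity) (by positivity)]
    simp [Nat.factorization_pow]
  have k2 := (key 2 Nat.prime_two).1
  have k3 := (key 3 Nat.prime_three).1
  have k5 := (key 5 (by norm_num)).1
  have k17 := (key 17 (by norm_num)).1
  rw [hf 2 Nat.prime_two] at k2
  rw [hf 3 Nat.prime_three] at k3
  rw [hf 5 (by norm_num)] at k5
  rw [hf 17 (by norm_num)] at k17
  simp only [Nat.Prime.factorization Nat.prime_two, Nat.Prime.factorization Nat.prime_three,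
    Nat.Prime.factorization (show Nat.Prime 5 by norm_num),
    Nat.Prime.factorization (show Nat.Prime 17 by norm_num), Finsupp.single_apply] at k2 k3 k5 k17
  norm_num at k2 k3 k5 k17
  obtain ⟨rfl, rfl, rfl, rfl⟩ := dvd_table ⟨a, by omega⟩ ⟨b, by omega⟩ ⟨c, by omega⟩ ⟨d, by omega⟩
    k2 k3 k5 k17
  exact Subgroup.card_eq_one.1 (by rw [hN']; norm_num)

end

end CfsgLib.J3
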