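import Cfsg.Agent.Lib.J3.IsoDefs

/-!
Kernel checks on a range of the tables.
-/

set_option autoImplicit false
set_option maxRecDepth 100000

namespace CfsgLib.J3

theorem iparOk_0 : partChk iparChk 43604 0 = true := by decide +kernel

theorem iparOk_1 : partChk iparChk 43604 1 = true := by decide +kernel

theorem iparOk_2 : partChk iparChk 43604 2 = true := by decide +kernel

theorem iparOk_3 : partChk iparChk 43604 3 = true := by decide +kernel

theorem iparOk_4 : partChk iparChk 43604 4 = true := by decide +kernel

theorem iparOk_5 : partChk iparChk 43604 5 = true := by decide +kernel

theorem iparOk_6 : partChk iparChk 43604 6 = true := by decide +kernel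

theorem iparOk_7 : partChk iparChk 43604 7 = true := by decide +kernel

theorem iparOk_8 : partChk iparChk 43604 8 = true := by decide +kernel

theorem iparOk_9 : partChk iparChk 43604 9 = true := by decide +kernel

theorem iparOk_10 : partChk iparChk 43604 10 = true := by decide +kernel

theorem iparOk_11 : partChk iparChk 43604 11 = true := by decide +kernel

theorem iparOk_12 : partChk iparChk 43604 12 = true := by decide +kernel

theorem iparOk_13 : partChk iparChk 43604 13 = true := by decide +kernel

theorem iparOk_14 : partChk iparChk 43604 14 = true := by decide +kernel

theorem iparOk_15 : partChk iparChk 43604 15 = true := by decide +kernel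

theorem iparOk_16 : partChk iparChk 43604 16 = true := by decide +kernel

theorem iparOk_17 : partChk iparChk 43604 17 = true := by decide +kernel

theorem iparOk_18 : partChk iparChk 43604 18 = true := by decide +kernel

theorem iparOk_19 : partChk iparChk 43604 19 = true := by decide +kernel

theorem iparOk_20 : partChk iparChk 43604 20 = true := by decide +kernel

theorem iparOk_21 : partChk iparChk 43604 21 = true := by decide +kernel

theorem iparOk_22 : partChk iparChk 43604 22 = true := by decide +kernel

theorem iparOk_23 : partChk iparChk 43604 23 = true := by decide +kernel

theorem iparOk_24 : partChk iparChk 43604 24 = true := by decide +kernel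

theorem iparOk_25 : partChk iparChk 43604 25 = true := by decide +kernel

theorem iparOk_26 : partChk iparChk 43604 26 = true := by decide +kernel

theorem iparOk_27 : partChk iparChk 43604 27 = true := by decide +kernel

theorem iparOk_28 : partChk iparChk 43604 28 = true := by decide +kernel

theorem iparOk_29 : partChk iparChk 43604 29 = true := by decide +kernel

theorem iparOk_30 : partChk iparChk 43604 30 = true := by decide +kernel

theorem iparOk_31 : partChk iparChk 43604 31 = true := by decide +kernel

theorem iparOk_32 : partChk iparChk 43604 32 = true := by decide +kernel

theorem iparOk_33 : partChk iparChk 43604 33 = true := by decide +kernel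

theorem iparOk_34 : partChk iparChk 43604 34 = true := by decide +kernel

theorem iparOk_35 : partChk iparChk 43604 35 = true := by decide +kernel

theorem iparOk_36 : partChk iparChk 43604 36 = true := by decide +kernel

theorem iparOk_37 : partChk iparChk 43604 37 = true := by decide +kernel

theorem iparOk_38 : partChk iparChk 43604 38 = true := by decide +kernel

theorem iparOk_39 : partChk iparChk 43604 39 = true := by decide +kernel

theorem iparOk_40 : partChk iparChk 43604 40 = true := by decide +kernel

theorem iparOk_41 : partChk iparChk 43604 41 = true := by decide +kernel

theorem iparOk_42 : partChk iparChk 43604 42 = true := by decide +kernel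

theorem iparOk_43 : partChk iparChk 43604 43 = true := by decide +kernel

theorem iparOk : ∀ s < 44, partChk iparChk 43604 s = true := by
  intro s hs
  interval_cases s
  exacts [iparOk_0, iparOk_1, iparOk_2, iparOk_3, iparOk_4, iparOk_5, iparOk_6, iparOk_7, iparOk_8, iparOk_9, iparOk_10, iparOk_11, iparOk_12, iparOk_13, iparOk_14, iparOk_15, iparOk_16, iparOk_17, iparOk_18, iparOk_19, iparOk_20, iparOk_21, iparOk_22, iparOk_23, iparOk_24, iparOk_25, iparOk_26, iparOk_27, iparOk_28, iparOk_29, iparOk_30, iparOk_31, iparOk_32, iparOk_33, iparOk_34, iparOk_35, iparOk_36, iparOk_37, iparOk_38, iparOk_39, iparOk_40, iparOk_41, iparOk_42, iparOk_43]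

end CfsgLib.J3
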