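import Cfsg.Agent.Lib.J3.IsoDefs

/-!
Kernel checks on a range of the tables.
-/

set_option autoImplicit false
set_option maxRecDepth 100000

namespace CfsgLib.J3

theorem irankOk_0 : partChk irankChk 43605 0 = true := by decide +kernel

theorem irankOk_1 : partChk irankChk 43605 1 = true := by decide +kernel

theorem irankOk_2 : partChk irankChk 43605 2 = true := by decide +kernel

theorem irankOk_3 : partChk irankChk 43605 3 = true := by decide +kernel

theorem irankOk_4 : partChk irankChk 43605 4 = true := by decide +kernel

theorem irankOk_5 : partChk irankChk 43605 5 = true := by decide +kernel

theorem irankOk_6 : partChk irankChk 43605 6 = true := by decide +kernel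

theorem irankOk_7 : partChk irankChk 43605 7 = true := by decide +kernel

theorem irankOk_8 : partChk irankChk 43605 8 = true := by decide +kernel

theorem irankOk_9 : partChk irankChk 43605 9 = true := by decide +kernel

theorem irankOk_10 : partChk irankChk 43605 10 = true := by decide +kernel

theorem irankOk_11 : partChk irankChk 43605 11 = true := by decide +kernel

theorem irankOk_12 : partChk irankChk 43605 12 = true := by decide +kernel

theorem irankOk_13 : partChk irankChk 43605 13 = true := by decide +kernel

theorem irankOk_14 : partChk irankChk 43605 14 = true := by decide +kernel

theorem irankOk_15 : partChk irankChk 43605 15 = true := by decide +kernel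

theorem irankOk_16 : partChk irankChk 43605 16 = true := by decide +kernel

theorem irankOk_17 : partChk irankChk 43605 17 = true := by decide +kernel

theorem irankOk_18 : partChk irankChk 43605 18 = true := by decide +kernel

theorem irankOk_19 : partChk irankChk 43605 19 = true := by decide +kernel

theorem irankOk_20 : partChk irankChk 43605 20 = true := by decide +kernel

theorem irankOk_21 : partChk irankChk 43605 21 = true := by decide +kernel

theorem irankOk_22 : partChk irankChk 43605 22 = true := by decide +kernel

theorem irankOk_23 : partChk irankChk 43605 23 = true := by decide +kernel

theorem irankOk_24 : partChk irankChk 43605 24 = true := by decide +kernel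

theorem irankOk_25 : partChk irankChk 43605 25 = true := by decide +kernel

theorem irankOk_26 : partChk irankChk 43605 26 = true := by decide +kernel

theorem irankOk_27 : partChk irankChk 43605 27 = true := by decide +kernel

theorem irankOk_28 : partChk irankChk 43605 28 = true := by decide +kernel

theorem irankOk_29 : partChk irankChk 43605 29 = true := by decide +kernel

theorem irankOk_30 : partChk irankChk 43605 30 = true := by decide +kernel

theorem irankOk_31 : partChk irankChk 43605 31 = true := by decide +kernel

theorem irankOk_32 : partChk irankChk 43605 32 = true := by decide +kernel

theorem irankOk_33 : partChk irankChk 43605 33 = true := by decide +kernel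

theorem irankOk_34 : partChk irankChk 43605 34 = true := by decide +kernel

theorem irankOk_35 : partChk irankChk 43605 35 = true := by decide +kernel

theorem irankOk_36 : partChk irankChk 43605 36 = true := by decide +kernel

theorem irankOk_37 : partChk irankChk 43605 37 = true := by decide +kernel

theorem irankOk_38 : partChk irankChk 43605 38 = true := by decide +kernel

theorem irankOk_39 : partChk irankChk 43605 39 = true := by decide +kernel

theorem irankOk_40 : partChk irankChk 43605 40 = true := by decide +kernel

theorem irankOk_41 : partChk irankChk 43605 41 = true := by decide +kernel

theorem irankOk_42 : partChk irankChk 43605 42 = true := by decide +kernel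

theorem irankOk_43 : partChk irankChk 43605 43 = true := by decide +kernel

theorem irankOk : ∀ s < 44, partChk irankChk 43605 s = true := by
  intro s hs
  interval_cases s
  exacts [irankOk_0, irankOk_1, irankOk_2, irankOk_3, irankOk_4, irankOk_5, irankOk_6, irankOk_7, irankOk_8, irankOk_9, irankOk_10, irankOk_11, irankOk_12, irankOk_13, irankOk_14, irankOk_15, irankOk_16, irankOk_17, irankOk_18, irankOk_19, irankOk_20, irankOk_21, irankOk_22, irankOk_23, irankOk_24, irankOk_25, irankOk_26, irankOk_27, irankOk_28, irankOk_29, irankOk_30, irankOk_31, irankOk_32, irankOk_33, irankOk_34, irankOk_35, irankOk_36, irankOk_37, irankOk_38, irankOk_39, irankOk_40, irankOk_41, irankOk_42, irankOk_43]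

end CfsgLib.J3
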