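import Cfsg.Agent.Lib.J3.Group
import Cfsg.Agent.Lib.J3.IsoParCheck
import Cfsg.Agent.Lib.J3.IsoRankCheck

/-!
The orbit of the first coordinate line and the isotropic lines.
-/

set_option autoImplicit false
set_option maxRecDepth 20000

namespace CfsgLib.J3

open Cfsg.Spor Matrix CfsgLib.Golay
open scoped MatrixGroups

variable {F : Type*} [Field F] (K : Fld F)

theorem iparChk_all {k : ℕ} (hk : k < 43604) : iparChk k = true := of_part iparOk (by norm_num) hk

theorem irankChk_all {i : ℕ} (hi : i < 43605) : irankChk i = true :=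
  of_part irankOk (by norm_num) hi

/-- The vector of a packed code. -/
def toVec (c : ℕ) : F9 → F := fun z => val2 K (c.testBit (ix z)) (c.testBit (9 + ix z))

theorem toVec_xor (a b : ℕ) : toVec K (a ^^^ b) = toVec K a + toVec K b := by
  ext z
  simp [toVec, Nat.testBit_xor, val2_add]

theorem packBits_ge (x : ℕ → Bool) {j : ℕ} (hj : 9 ≤ j) : (packBits x).testBit j = false :=
  Nat.testBit_lt_two_pow (lt_of_lt_of_le (packBits_lt x)
    (Nat.pow_le_pow_right (by norm_num : 0 < 2) hj))

theorem colVec_testBit (A : ℕ) {i : ℕ} (hi : i < 9) :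
    (colVec A).testBit i = A.testBit (9 * i) ∧
      (colVec A).testBit (9 + i) = A.testBit (81 + 9 * i) := by
  rw [colVec, Nat.add_comm, show (512 : ℕ) = 2 ^ 9 by norm_num,
    Nat.testBit_two_pow_mul_add _ (show col0a A < 2 ^ 9 from packBits_lt _),
    Nat.testBit_two_pow_mul_add _ (show col0a A < 2 ^ 9 from packBits_lt _),
    if_pos hi, if_neg (by omega), Nat.add_sub_cancel_left]
  exact ⟨packBits_testBit _ hi, packBits_testBit _ hi⟩

theorem slotBits_lt (x : ℕ → Bool) : slotBits x < 2 ^ 81 :=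
  pack9_lt fun i _ => by cases x i <;> simp

theorem colCode_col (c : ℕ) (i : F9) : toMat K (colCode c) i 0 = toVec K c i := by
  have hi := ix_lt i
  have h1 : (9 * ix i + ix (0 : F9)) < 81 ∧ (9 * ix i + ix (0 : F9)) % 9 = 0 := by
    rw [ix_zero]; omega
  have h2 : (9 * ix i + ix (0 : F9)) / 9 = ix i := by rw [ix_zero]; omega
  simp only [toMat, toVec, colCode, mk_testBit_low (slotBits_lt _) _ h1.1,
    mk_testBit_high (slotBits_lt _), slotBits_testBit, decide_eq_true h1, Bool.true_and, h2]

theorem linT_spec {g j c : ℕ} (hg : g < 2) (hj : j < 3) (hc : c < 64) :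
    toVec K (linT g j c) = toMat K (topGen g) *ᵥ toVec K (c * 64 ^ j) := by
  have h := linChk_all ⟨g, hg⟩ ⟨j, hj⟩ ⟨c, hc⟩
  simp only [linChk, Nat.beq_eq] at h
  ext z
  obtain ⟨h1, h2⟩ := colVec_testBit (mulM (topGen g) (colCode (c * 64 ^ j))) (ix_lt z)
  have e : toVec K (linT g j c) z = toMat K (mulM (topGen g) (colCode (c * 64 ^ j))) z 0 := by
    simp only [toVec, h, h1, h2, toMat, ix_zero, Nat.add_zero]
  rw [e, toMat_mulM, Matrix.mul_apply]
  simp only [Matrix.mulVec, dotProduct, colCode_col]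

theorem chunk_testBit (c m k : ℕ) :
    ((c / 2 ^ m % 64) * 2 ^ m).testBit k = (decide (m ≤ k ∧ k < m + 6) && c.testBit k) := by
  rw [Nat.testBit_mul_two_pow, show (64 : ℕ) = 2 ^ 6 by norm_num, Nat.testBit_mod_two_pow,
    Nat.testBit_div_two_pow]
  by_cases h : m ≤ k
  · simp [h, show m + (k - m) = k by omega, show (k - m < 6) ↔ (k < m + 6) by omega, add_comm]
  · simp [h]

theorem chunk_split (c : ℕ) : toVec K c = toVec K ((c % 64) * 64 ^ 0) +
    toVec K ((c / 64 % 64) * 64 ^ 1) + toVec K ((c / 4096 % 64) * 64 ^ 2) := by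
  rw [← toVec_xor, ← toVec_xor]
  have key : ∀ k < 18, ((c % 64) * 64 ^ 0 ^^^ (c / 64 % 64) * 64 ^ 1 ^^^
      (c / 4096 % 64) * 64 ^ 2).testBit k = c.testBit k := by
    intro k hk
    have e0 := chunk_testBit c 0 k
    have e1 := chunk_testBit c 6 k
    have e2 := chunk_testBit c 12 k
    norm_num at e0 e1 e2 ⊢
    rw [e0, e1, e2]
    by_cases a : k < 6
    · simp [a, show ¬ 6 ≤ k by omega, show ¬ 12 ≤ k by omega]
    by_cases b : k < 12
    · simp [a, b, show 6 ≤ k by omega, show ¬ 12 ≤ k by omega]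
    · simp [a, show ¬ k < 12 by omega, show 12 ≤ k by omega, hk]
  ext z
  have hz := ix_lt z
  simp only [toVec, key _ (show ix z < 18 by omega), key _ (show 9 + ix z < 18 by omega)]

theorem vimg_spec {g : ℕ} (hg : g < 2) (c : ℕ) :
    toVec K (vimg g c) = toMat K (topGen g) *ᵥ toVec K c := by
  rw [chunk_split K c, Matrix.mulVec_add, Matrix.mulVec_add,
    ← linT_spec K hg (show 0 < 3 by norm_num) (Nat.mod_lt _ (by norm_num)),
    ← linT_spec K hg (show 1 < 3 by norm_num) (Nat.mod_lt _ (by norm_num)),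
    ← linT_spec K hg (show 2 < 3 by norm_num) (Nat.mod_lt _ (by norm_num)),
    vimg, toVec_xor, toVec_xor]

/-- The cube sum. -/
def cubeSum (v : F9 → F) : F := ∑ z, (v z) ^ 3

/-- The first isotropic vector. -/
def isoVec : F9 → F := toVec K (ivec 0)

theorem ivec_orbit : ∀ i, i < 43605 → ∃ g ∈ grpG K, g.val *ᵥ isoVec K = toVec K (ivec i) := by
  intro i
  induction i using Nat.strong_induction_on with
  | h i ih =>
    intro hi
    rcases i with _ | k
    · exact ⟨1, Subgroup.one_mem _, by rw [Units.val_one, Matrix.one_mulVec]; rfl⟩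
    · have h := iparChk_all (show k < 43604 by omega)
      simp only [iparChk, Bool.and_eq_true, Nat.blt_eq, Nat.ble_eq, Nat.beq_eq] at h
      obtain ⟨⟨h1, h2⟩, h3⟩ := h
      obtain ⟨g, hg, e⟩ := ih (ipar k % 65536) (by omega) (by omega)
      refine ⟨val K (topGen (ipar k / 65536)) * g, Subgroup.mul_mem _ (topGen_mem K _) hg, ?_⟩
      rw [Units.val_mul, ← Matrix.mulVec_mulVec, e, val_coe K (ok_topGen _), h3, vimg_spec K h1]

section
variable [Finite F]

theorem cubeSum_mulVec {g : GL F9 F} (hg : g ∈ grpG K) (v : F9 → F) :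
    cubeSum (g.val *ᵥ v) = cubeSum v := by
  obtain ⟨A, hA, rfl⟩ := exists_code K hg
  rw [val_coe K hA]
  have h1 : conjT K (toMat K A) * toMat K A = 1 := mul_eq_one_comm.1 (ok_spec K hA).2
  set M := toMat K A with hM
  have hs : ∀ x : F, x ^ 3 = x * sq K x := fun x => by
    show x ^ 3 = x * (x * x)
    ring
  have key : ∀ a : F9 → F, cubeSum a = a ⬝ᵥ (sq K ∘ a) := fun a => by
    simp [cubeSum, dotProduct, hs]
  have hsv : sq K ∘ (M *ᵥ v) = M.map (sq K) *ᵥ (sq K ∘ v) := by
    ext i
    exact RingHom.map_mulVec (sq K) M v i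
  rw [key, key, hsv, dotProduct_mulVec, ← Matrix.mulVec_transpose, Matrix.mulVec_mulVec]
  rw [conjT] at h1
  rw [h1, Matrix.one_mulVec]

end

theorem isoVec_bits : (∀ z : F9, ((ivec 0).testBit (ix z), (ivec 0).testBit (9 + ix z)) =
    (decide (z = (1, 0) ∨ z = (2, 0)), false)) := by decide +kernel

theorem cubeSum_isoVec : cubeSum (isoVec K) = 0 := by
  have e : ∀ z : F9, isoVec K z = if z = (1, 0) ∨ z = (2, 0) then 1 else 0 := fun z => by
    have h := isoVec_bits z
    simp only [Prod.mk.injEq] at h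
    simp only [isoVec, toVec, h.1, h.2]
    by_cases h' : z = (1, 0) ∨ z = (2, 0) <;> simp [h', val2]
  rw [cubeSum, Finset.sum_eq_add ((1, 0) : F9) (2, 0) (by decide)]
  · simp [e]
    linear_combination K.two
  · intro z _ hz
    simp [e, hz.1, hz.2]
  · simp
  · simp

theorem isoVec_ne : isoVec K ≠ 0 := by
  intro h
  have h' := congrFun h (1, 0)
  have hb := isoVec_bits (1, 0)
  simp only [Prod.mk.injEq] at hb
  simp [isoVec, toVec, hb.1, hb.2, val2] at h'

theorem keyP_scalar {x y x' y' : ℕ → Bool} {t0 t1 : Bool} (ht : t0 = true ∨ t1 = true)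
    (h : ∀ i < 9, val2 K (x' i) (y' i) = val2 K (x i) (y i) * val2 K t0 t1) :
    keyP (packBits x') (packBits y') = keyP (packBits x) (packBits y) := by
  simp only [val2_mul] at h
  have he := fun i hi => val2_inj K (h i hi)
  cases t0 <;> cases t1
  · simp at ht
  all_goals simp only [Bool.and_true, Bool.and_false, Bool.xor_false, Bool.false_xor, Bool.xor_true,
    Bool.not_false, Bool.not_true] at he
  · have e1 : packBits x' = packBits y := packBits_congr fun i hi => (he i hi).1
    have e2 : packBits y' = packBits x ^^^ packBits y := by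
      rw [← packBits_xor]; exact packBits_congr fun i hi => (he i hi).2
    rw [e1, e2]
    exact keyP_rot _ _
  · rw [packBits_congr fun i hi => (he i hi).1, packBits_congr fun i hi => (he i hi).2]
  · have e1 : packBits x' = packBits x ^^^ packBits y := by
      rw [← packBits_xor]; exact packBits_congr fun i hi => (he i hi).1
    have e2 : packBits y' = packBits x := packBits_congr fun i hi => by rw [(he i hi).2]
    rw [e1, e2, ← keyP_rot (packBits x ^^^ packBits y) (packBits x),
      Nat.xor_comm (packBits x ^^^ packBits y) (packBits x), ← Nat.xor_assoc, Nat.xor_self,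
      Nat.zero_xor]

theorem exists_val2 {t : F} (ht : t ≠ 0) :
    ∃ a b : Bool, (a = true ∨ b = true) ∧ val2 K a b = t := by
  rcases K.elems t with h | h | h | h
  · exact absurd h ht
  · exact ⟨true, false, Or.inl rfl, by simp [val2, h]⟩
  · exact ⟨false, true, Or.inr rfl, by simp [val2, h]⟩
  · exact ⟨true, true, Or.inl rfl, by simp [val2, h]⟩

theorem ivec_lt (i : ℕ) : ivec i < 262144 := Nat.mod_lt _ (Nat.two_pow_pos _)

theorem packBits_low {c : ℕ} (hc : c < 262144) :
    c % 512 = packBits (fun i => c.testBit i) ∧ c / 512 = packBits (fun i => c.testBit (9 + i)) := by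
  constructor <;> refine Nat.eq_of_testBit_eq fun j => ?_ <;> by_cases hj : j < 9
  · rw [packBits_testBit _ hj, show (512 : ℕ) = 2 ^ 9 by norm_num, Nat.testBit_mod_two_pow]
    simp [hj]
  · rw [packBits_ge _ (by omega), show (512 : ℕ) = 2 ^ 9 by norm_num, Nat.testBit_mod_two_pow]
    simp [hj]
  · rw [packBits_testBit _ hj, show (512 : ℕ) = 2 ^ 9 by norm_num, Nat.testBit_div_two_pow,
      Nat.add_comm]
  · rw [packBits_ge _ (by omega), Nat.testBit_lt_two_pow]
    calc c / 512 < 512 := by omega
      _ = 2 ^ 9 := by norm_num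
      _ ≤ 2 ^ j := Nat.pow_le_pow_right (by norm_num) (by omega)

theorem isrt_strictMono {r s : ℕ} (h : r < s) (hs : s < 43605) : isrt r < isrt s := by
  induction s with
  | zero => omega
  | succ s ih =>
    have hstep : isrt s < isrt (s + 1) := by
      have h' := irankChk_all (show s < 43605 by omega)
      simp only [irankChk, Bool.and_eq_true, Bool.or_eq_true, Nat.blt_eq, Nat.beq_eq] at h'
      rcases h'.2 with h2 | h2
      · exact h2
      · omega
    rcases Nat.lt_or_eq_of_le (Nat.lt_succ_iff.1 h) with h1 | h1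
    · exact (ih h1 (by omega)).trans hstep
    · exact h1 ▸ hstep

theorem ivec_line_inj {i j : ℕ} (hi : i < 43605) (hj : j < 43605) {t : F} (ht : t ≠ 0)
    (h : toVec K (ivec i) = t • toVec K (ivec j)) : i = j := by
  obtain ⟨a, b, hab, rfl⟩ := exists_val2 K ht
  have hk : keyV (ivec i) = keyV (ivec j) := by
    rw [keyV, keyV, (packBits_low (ivec_lt i)).1, (packBits_low (ivec_lt i)).2,
      (packBits_low (ivec_lt j)).1, (packBits_low (ivec_lt j)).2]
    refine keyP_scalar K hab fun k hk => ?_
    have h' := congrFun h (e9.symm ⟨k, hk⟩)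
    simp only [toVec, Pi.smul_apply, smul_eq_mul, ix_symm] at h'
    rw [h', mul_comm]
  have h1 := irankChk_all hi
  have h2 := irankChk_all hj
  simp only [irankChk, Bool.and_eq_true, Bool.or_eq_true, Nat.blt_eq, Nat.beq_eq] at h1 h2
  obtain ⟨⟨⟨a1, b1⟩, c1⟩, -⟩ := h1
  obtain ⟨⟨⟨a2, b2⟩, c2⟩, -⟩ := h2
  have e : irank i = irank j := by
    rcases lt_trichotomy (irank i) (irank j) with h' | h' | h'
    · have := isrt_strictMono h' a2
      omega
    · exact h'
    · have := isrt_strictMono h' a1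
      omega
  rw [← b1, ← b2, e]

/-! ### Counting the isotropic vectors -/

/-- The number of vectors with a given cube sum, by length. -/
def cnt : ℕ → ℕ × ℕ
  | 0 => (1, 0)
  | n + 1 => ((cnt n).1 + 3 * (cnt n).2, (cnt n).2 + 3 * (cnt n).1)

theorem cube_eq (K : Fld F) {x : F} (hx : x ≠ 0) : x ^ 3 = 1 := by
  rcases K.elems x with h | h | h | h
  · exact absurd h hx
  · rw [h, one_pow]
  · rw [h]; linear_combination (K.ω - 1) * K.root
  · rw [h]; linear_combination (K.ω + 2) * K.root - K.two

theorem count_spec (K : Fld F) [Fintype F] [DecidableEq F] (hF : Fintype.card F = 4) : ∀ n : ℕ,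
    (Finset.univ.filter fun v : Fin n → F => ∑ i, v i ^ 3 = 0).card = (cnt n).1 ∧
      (Finset.univ.filter fun v : Fin n → F => ∑ i, v i ^ 3 = 1).card = (cnt n).2 := by
  intro n
  induction n with
  | zero => simp [cnt, Finset.filter_singleton]
  | succ n ih =>
    have key : ∀ b : F, (Finset.univ.filter fun v : Fin (n + 1) → F => ∑ i, v i ^ 3 = b).card =
        ∑ x : F, (Finset.univ.filter fun w : Fin n → F => x ^ 3 + ∑ i, w i ^ 3 = b).card := by
      intro b
      rw [← Finset.card_sigma]
      refine Finset.card_equiv ((Fin.consEquiv fun _ => F).symm.trans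
        (Equiv.sigmaEquivProd F (Fin n → F)).symm) fun v => ?_
      simp [Fin.sum_univ_succ, Fin.tail]
    have h1 : (1 : F) + 1 = 0 := by linear_combination K.two
    have hsum : ∀ b : F, (∑ x : F,
        (Finset.univ.filter fun w : Fin n → F => x ^ 3 + ∑ i, w i ^ 3 = b).card) =
        (Finset.univ.filter fun w : Fin n → F => ∑ i, w i ^ 3 = b).card +
          3 * (Finset.univ.filter fun w : Fin n → F => ∑ i, w i ^ 3 = 1 + b).card := by
      intro b
      rw [← Finset.add_sum_erase _ _ (Finset.mem_univ (0 : F))]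
      congr 1
      · simp
      · rw [Finset.sum_congr rfl (g := fun _ =>
          (Finset.univ.filter fun w : Fin n → F => ∑ i, w i ^ 3 = 1 + b).card) fun x hx => by
            rw [Finset.mem_erase] at hx
            refine congrArg Finset.card (Finset.filter_congr fun w _ => ?_)
            rw [cube_eq K hx.1]
            constructor <;> intro h
            · linear_combination h - K.two
            · linear_combination h + K.two]
        rw [Finset.sum_const, Finset.card_erase_of_mem (Finset.mem_univ _), Finset.card_univ, hF]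
        rfl
    constructor
    · rw [key, hsum, add_zero, ih.1, ih.2]; rfl
    · rw [key, hsum, h1, ih.1, ih.2]; rfl

theorem card_isotropic (K : Fld F) [Fintype F] [DecidableEq F] (hF : Fintype.card F = 4) :
    (Finset.univ.filter fun v : F9 → F => v ≠ 0 ∧ cubeSum v = 0).card = 130815 := by
  have h0 : (Finset.univ.filter fun v : F9 → F => cubeSum v = 0).card = 130816 := by
    rw [show (130816 : ℕ) = (cnt 9).1 by decide +kernel, ← (count_spec K hF 9).1]
    refine Finset.card_equiv (Equiv.arrowCongr e9 (Equiv.refl F)) fun v => ?_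
    rw [Finset.mem_filter, Finset.mem_filter]
    simp only [Finset.mem_univ, true_and, cubeSum, Equiv.arrowCongr_apply,
      Equiv.coe_refl, Function.comp_def, id_eq]
    rw [Equiv.sum_comp e9.symm (fun z => v z ^ 3)]
  have h1 : (Finset.univ.filter fun v : F9 → F => v ≠ 0 ∧ cubeSum v = 0) =
      (Finset.univ.filter fun v : F9 → F => cubeSum v = 0).erase 0 := by
    ext v
    simp [and_comm]
  rw [h1, Finset.card_erase_of_mem (Finset.mem_filter.2 ⟨Finset.mem_univ _, by simp [cubeSum]⟩), h0]

attribute [local irreducible] ivec toVec in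
theorem isotropic_orbit [Fintype F] (hF : Fintype.card F = 4) {v : F9 → F} (hv : v ≠ 0)
    (hs : cubeSum v = 0) : ∃ g ∈ grpG K, ∃ t : F, t ≠ 0 ∧ v = t • (g.val *ᵥ isoVec K) := by
  classical
  obtain ⟨n, hn⟩ : ∃ n, n = 43605 := ⟨_, rfl⟩
  have hne : ∀ i, i < n → toVec K (ivec i) ≠ 0 := fun i hi h => by
    obtain ⟨g, -, e⟩ := ivec_orbit K i (hn ▸ hi)
    rw [h] at e
    exact isoVec_ne K ((Matrix.mulVec_injective_iff_isUnit.2 g.isUnit) (e.trans (mulVec_zero _).symm))
  let D := (Finset.univ : Finset (Fin n)) ×ˢ (Finset.univ.erase (0 : F))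
  have himg : D.image (fun p => p.2 • toVec K (ivec p.1.val)) =
      Finset.univ.filter fun v : F9 → F => v ≠ 0 ∧ cubeSum v = 0 := by
    refine Finset.eq_of_subset_of_card_le (fun w hw => ?_) ?_
    · obtain ⟨⟨i, t⟩, hp, rfl⟩ := Finset.mem_image.1 hw
      have ht : t ≠ 0 := (Finset.mem_erase.1 (Finset.mem_product.1 hp).2).1
      obtain ⟨g, hg, e⟩ := ivec_orbit K i.val (hn ▸ i.isLt)
      refine Finset.mem_filter.2 ⟨Finset.mem_univ _, smul_ne_zero ht (hne _ i.isLt), ?_⟩
      have h3 : cubeSum (toVec K (ivec i.val)) = 0 := by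
        rw [← e, cubeSum_mulVec K hg, cubeSum_isoVec]
      simp only [cubeSum, Pi.smul_apply, smul_eq_mul, mul_pow, ← Finset.mul_sum] at h3 ⊢
      rw [h3, mul_zero]
    · rw [card_isotropic K hF, Finset.card_image_of_injOn]
      · rw [Finset.card_product, Finset.card_univ, Fintype.card_fin,
          Finset.card_erase_of_mem (Finset.mem_univ _), Finset.card_univ, hF, hn]
      · rintro ⟨i, t⟩ hp ⟨j, s⟩ hq e
        have ht : t ≠ 0 := (Finset.mem_erase.1 (Finset.mem_product.1 hp).2).1
        have hs' : s ≠ 0 := (Finset.mem_erase.1 (Finset.mem_product.1 hq).2).1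
        dsimp only at e
        have e' : toVec K (ivec i.val) = (t⁻¹ * s) • toVec K (ivec j.val) := by
          rw [mul_smul, ← e, inv_smul_smul₀ ht]
        obtain rfl := Fin.ext (ivec_line_inj K (hn ▸ i.isLt) (hn ▸ j.isLt) (mul_ne_zero (inv_ne_zero ht) hs') e')
        exact Prod.ext rfl (smul_left_injective F (hne _ i.isLt) e)
  have hmem : v ∈ D.image (fun p => p.2 • toVec K (ivec p.1.val)) := by
    rw [himg]; exact Finset.mem_filter.2 ⟨Finset.mem_univ _, hv, hs⟩
  obtain ⟨⟨i, t⟩, hp, rfl⟩ := Finset.mem_image.1 hmem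
  obtain ⟨g, hg, e⟩ := ivec_orbit K i.val (hn ▸ i.isLt)
  exact ⟨g, hg, t, (Finset.mem_erase.1 (Finset.mem_product.1 hp).2).1, by rw [e]⟩

theorem isotropic_transitive [Fintype F] (hF : Fintype.card F = 4) {v w : F9 → F} (hv : v ≠ 0)
    (hw : w ≠ 0) (hsv : cubeSum v = 0) (hsw : cubeSum w = 0) :
    ∃ g ∈ grpG K, ∃ c : F, c ≠ 0 ∧ g.val *ᵥ v = c • w := by
  obtain ⟨a, ha, t, ht, rfl⟩ := isotropic_orbit K hF hv hsv
  obtain ⟨b, hb, s, hs, rfl⟩ := isotropic_orbit K hF hw hsw
  refine ⟨b * a⁻¹, Subgroup.mul_mem _ hb (Subgroup.inv_mem _ ha), t * s⁻¹,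
    mul_ne_zero ht (inv_ne_zero hs), ?_⟩
  rw [Matrix.mulVec_smul, Matrix.mulVec_mulVec, ← Units.val_mul, inv_mul_cancel_right, smul_smul,
    mul_assoc, inv_mul_cancel₀ hs, mul_one]

theorem col_single (A : ℕ) : toMat K A *ᵥ (Pi.single (0 : F9) (1 : F) : F9 → F) =
    fun z => toMat K A z 0 := by
  ext z
  simp [Matrix.mulVec, dotProduct, Pi.single_apply]

theorem lines_card [Finite F] :
    {L : Submodule F (F9 → F) | ∃ g ∈ grpG K,
      L = F ∙ ((g : Matrix F9 F9 F) *ᵥ (Pi.single (0 : F9) (1 : F) : F9 → F))}.ncard = 23256 := by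
  let f : Fin 23256 → Submodule F (F9 → F) := fun i => F ∙ (fun z => toMat K (rep i.val) z 0)
  have hf : Function.Injective f := by
    intro i j h
    refine Fin.ext (keyA_inj i.isLt j.isLt ?_)
    obtain ⟨u, hu⟩ := Submodule.span_singleton_eq_span_singleton.1 h.symm
    obtain ⟨a, b, hab, hab'⟩ := exists_val2 K u.ne_zero
    refine keyP_scalar K hab fun k hk => ?_
    have h' := congrFun hu (e9.symm ⟨k, hk⟩)
    simp only [Pi.smul_apply, Units.smul_def, smul_eq_mul, toMat_col K _ hk] at h'
    rw [← h', ← hab', mul_comm]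
  have hset : {L : Submodule F (F9 → F) | ∃ g ∈ grpG K,
      L = F ∙ ((g : Matrix F9 F9 F) *ᵥ (Pi.single (0 : F9) (1 : F) : F9 → F))} = Set.range f := by
    ext L
    constructor
    · rintro ⟨g, hg, rfl⟩
      obtain ⟨i, hi, h, hh, rfl⟩ := exists_decomp K hg
      refine ⟨⟨i, hi⟩, Submodule.span_singleton_eq_span_singleton.2 ?_⟩
      have hfix := grpH_fix K hh
      have hc : h.val 0 0 ≠ 0 := by
        intro h0
        have := congrFun (congrFun (Units.mul_inv h) 0) 0
        rw [Matrix.mul_apply, Finset.sum_eq_single 0 (fun j _ hj => by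
          rw [(col_scalar K hfix hj).2, zero_mul]) (by simp), h0, zero_mul,
          Matrix.one_apply_eq] at this
        exact zero_ne_one this
      refine ⟨Units.mk0 _ hc, ?_⟩
      ext z
      rw [Units.val_mul, val_coe K (ok_rep hi K)]
      simp only [Matrix.mulVec, dotProduct, Pi.single_apply, mul_ite, mul_one, mul_zero,
        Finset.sum_ite_eq', Finset.mem_univ, if_true, Pi.smul_apply, Units.smul_def, Units.val_mk0,
        smul_eq_mul]
      rw [Matrix.mul_apply, Finset.sum_eq_single 0 (fun j _ hj => by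
        rw [(col_scalar K hfix hj).1, mul_zero]) (by simp), mul_comm]
    · rintro ⟨i, rfl⟩
      refine ⟨val K (rep i.val), (rep_spec K _ i.isLt).2, ?_⟩
      rw [val_coe K (ok_rep i.isLt K), col_single]
  rw [hset, ← Nat.card_coe_set_eq, Nat.card_range_of_injective hf, Nat.card_fin]

end CfsgLib.J3
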