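import Cfsg.Agent.Lib.J3.Defs
import Cfsg.Agent.Lib.J3.IsoData

/-!
Checks on the table of the isotropic lines.
-/

set_option autoImplicit false

namespace CfsgLib.J3

/-- The packed vector of a line. -/
def ivec (i : ℕ) : ℕ := lookB ivecB 18 i

/-- The parents. -/
def ipar (k : ℕ) : ℕ := lookB iparB 17 k

/-- The line keys in increasing order. -/
def isrt (i : ℕ) : ℕ := lookB isrtB 18 i

/-- The rank of a line. -/
def irank (i : ℕ) : ℕ := lookB irankB 16 i

/-- The line of a rank. -/
def iinv (i : ℕ) : ℕ := lookB iinvB 16 i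

/-- The canonical key of a packed vector. -/
def keyV (c : ℕ) : ℕ := keyP (c % 512) (c / 512)

/-- The image of a chunk of six bits. -/
def linT (g j c : ℕ) : ℕ := lookB ilinB 18 (192 * g + 64 * j + c)

/-- The image of a packed vector. -/
def vimg (g v : ℕ) : ℕ :=
  linT g 0 (v % 64) ^^^ linT g 1 (v / 64 % 64) ^^^ linT g 2 (v / 4096 % 64)

/-- A packed vector as a first column. -/
def colCode (c : ℕ) : ℕ :=
  mk (slotBits fun i => c.testBit i) (slotBits fun i => c.testBit (9 + i))

/-- The first column as a packed vector. -/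
def colVec (A : ℕ) : ℕ := col0a A + 512 * col0b A

/-- The check of the linear tables. -/
def linChk (g j c : ℕ) : Bool :=
  (linT g j c).beq (colVec (mulM (topGen g) (colCode (c * 64 ^ j))))

theorem linChk_all : ∀ g : Fin 2, ∀ j : Fin 3, ∀ c : Fin 64, linChk g.val j.val c.val = true := by
  decide +kernel

/-- The parent check of a line. -/
def iparChk (k : ℕ) : Bool :=
  let p := ipar k
  (p / 65536).blt 2 && (p % 65536).ble k &&
    (ivec (k + 1)).beq (vimg (p / 65536) (ivec (p % 65536)))

/-- The rank check of a line. -/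
def irankChk (i : ℕ) : Bool :=
  let r := irank i
  r.blt 43605 && (iinv r).beq i && (keyV (ivec i)).beq (isrt r) &&
    ((isrt i).blt (isrt (i + 1)) || i.beq 43604)

end CfsgLib.J3
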