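import Cfsg.Agent.Lib.J3.Simple
import Cfsg.Agent.Lib.J3.SubData
import Cfsg.Prelude.Def_Sporadic

/-!
The permutation action of degree 6156 of the simple quotient.
-/

set_option autoImplicit false
set_option maxRecDepth 20000

namespace CfsgLib.J3

open Cfsg.Spor Matrix CfsgLib.Golay
open scoped MatrixGroups

theorem sub_chain0 : Bsgs.check (ops K0) [] subLevels = true := by decide +kernel

theorem sub_gens : (List.range (Bsgs.allGens subLevels).length).all (fun k =>
    let e := subIdx.getD k (0, [])
    e.1.blt 23256 && ((Bsgs.allGens subLevels).getD k oneM).beq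
      (mulM (rep e.1) (prod3 (e.2.getD 0 0) (e.2.getD 1 0) (e.2.getD 2 0)))) = true := by
  decide +kernel

theorem sub_om0 : Bsgs.prodReps (ops K0) subLevels subOm = omCode := by decide +kernel

theorem sub_card : (subLevels.map fun l => l.reps.length).prod = 24480 := by decide +kernel

theorem prod_congr {F F' : Type*} [Field F] [Field F'] (K : Fld F) (K' : Fld F') :
    ∀ (ls : List Bsgs.Lvl) (is : List ℕ),
      Bsgs.prodReps (ops K) ls is = Bsgs.prodReps (ops K') ls is := by
  intro ls
  induction ls with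
  | nil => intro is; rfl
  | cons l ls ih =>
    intro is
    cases is with
    | nil => rfl
    | cons i is => show mulM _ _ = mulM _ _; rw [ih is]; rfl

/-- A simple group on the cosets of a proper subgroup, the first point being the subgroup. -/
theorem coset_real {Q : Type*} [Group Q] [Finite Q] [IsSimpleGroup Q] (P : Subgroup Q) {n : ℕ}
    [NeZero n] (hn : P.index = n) (h1 : 1 < n) :
    ∃ H : Subgroup (Equiv.Perm (Fin n)), Nonempty (Q ≃* H) ∧
      MulAction.IsPretransitive H (Fin n) ∧
      Nat.card (MulAction.stabilizer H (0 : Fin n)) = Nat.card P := by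
  obtain ⟨e, he⟩ : ∃ e : Q ⧸ P ≃ Fin n, e ((1 : Q) : Q ⧸ P) = 0 := by
    let e0 := Finite.equivFinOfCardEq (show Nat.card (Q ⧸ P) = n by
      rw [← Subgroup.index_eq_card, hn])
    exact ⟨e0.trans (Equiv.swap (e0 ((1 : Q) : Q ⧸ P)) 0), by simp⟩
  have he' : e.symm 0 = ((1 : Q) : Q ⧸ P) := e.symm_apply_eq.2 he.symm
  let ρ : Q →* Equiv.Perm (Fin n) :=
    e.permCongrHom.toMonoidHom.comp (MulAction.toPermHom Q (Q ⧸ P))
  have happ : ∀ (q : Q) (x : Fin n), ρ q x = e (q • e.symm x) := fun q x => rfl
  have hfix : ∀ q : Q, e (q • e.symm 0) = 0 ↔ q ∈ P := fun q => by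
    rw [he', MulAction.Quotient.smul_coe, smul_eq_mul, mul_one]
    conv_lhs => rw [← he, e.apply_eq_iff_eq, QuotientGroup.eq, mul_one]
    exact inv_mem_iff
  have hinj : Function.Injective ρ := by
    refine (MonoidHom.ker_eq_bot_iff _).1
      ((ρ.normal_ker).eq_bot_or_eq_top.resolve_right fun htop => ?_)
    have hP : P = ⊤ := eq_top_iff.2 fun q _ => by
      refine (hfix q).1 ?_
      rw [← happ, MonoidHom.mem_ker.1 (htop ▸ Subgroup.mem_top q), Equiv.Perm.one_apply]
    rw [hP, Subgroup.index_top] at hn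
    omega
  let ι : Q ≃* ρ.range := MonoidHom.ofInjective hinj
  have hact : ∀ (q : Q) (x : Fin n), ι q • x = e (q • e.symm x) := fun q x => rfl
  refine ⟨ρ.range, ⟨ι⟩, ⟨fun x y => ?_⟩, ?_⟩
  · obtain ⟨q, hq⟩ := MulAction.exists_smul_eq Q (e.symm x) (e.symm y)
    exact ⟨ι q, by rw [hact, hq, Equiv.apply_symm_apply]⟩
  · symm
    refine Nat.card_congr (Equiv.subtypeEquiv ι.toEquiv fun q => ?_)
    rw [MulAction.mem_stabilizer_iff]
    exact (hfix q).symm

section
variable {F : Type*} [Field F] [Finite F] (K : Fld F)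

/-- The subgroup of order 24480. -/
def subK : Subgroup (GL F9 F) := Bsgs.grp (ops K) subLevels

theorem subK_spec : (∀ is, okM (Bsgs.prodReps (ops K) subLevels is) = true ∧
      val K (Bsgs.prodReps (ops K) subLevels is) ∈ subK K) ∧ Nat.card (subK K) = 24480 := by
  obtain ⟨-, -, h3, h4, -⟩ := Bsgs.spec (ops K) (fun f hf => absurd hf List.not_mem_nil)
    ((check_congr K K0 [] subLevels).trans sub_chain0)
  exact ⟨h3, by rw [subK, h4, sub_card]⟩

theorem subK_le : subK K ≤ grpG K := by
  refine (Subgroup.closure_le _).2 ?_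
  rintro _ ⟨r, hr, rfl⟩
  obtain ⟨k, hk, rfl⟩ := List.getElem_of_mem hr
  have h := sub_gens
  simp only [List.all_eq_true, List.mem_range, Bool.and_eq_true, Nat.blt_eq, Nat.beq_eq] at h
  obtain ⟨h1, h2⟩ := h k hk
  rw [List.getD_eq_getElem _ _ hk] at h2
  obtain ⟨h3, h4⟩ := (grpH_spec K).2.1
    [(subIdx.getD k (0, [])).2.getD 0 0, (subIdx.getD k (0, [])).2.getD 1 0,
      (subIdx.getD k (0, [])).2.getD 2 0]
  show val K _ ∈ grpG K
  rw [h2]
  refine (val_mulM K (ok_rep h1 K) h3).symm ▸ ?_
  exact decomp_mem K h1 h4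

theorem center_le_subK : Subgroup.center (grpG K) ≤ (subK K).subgroupOf (grpG K) := by
  intro g hg
  obtain ⟨s, hs, e⟩ := (center_eq K).1 hg
  have hok : okM omCode = true := List.all_eq_true.1 scalList_ok omCode (by simp [scalList])
  have hom : val K omCode ∈ subK K := by
    have h := ((subK_spec K).1 subOm).2
    rwa [prod_congr K K0, sub_om0] at h
  rw [Subgroup.mem_subgroupOf, e]
  simp only [scalList, List.mem_cons, List.not_mem_nil, or_false] at hs
  rcases hs with rfl | rfl | rfl
  · rw [val_oneM]; exact Subgroup.one_mem _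
  · exact hom
  · rw [val_mulM K hok hok]; exact Subgroup.mul_mem _ hom hom

/-- The point stabiliser in the simple group. -/
noncomputable def pointGrp : Subgroup (grpG K ⧸ Subgroup.center (grpG K)) :=
  ((subK K).subgroupOf (grpG K)).map (QuotientGroup.mk' _)

theorem card_pointGrp : Nat.card (pointGrp K) = 8160 := by
  set L := (subK K).subgroupOf (grpG K) with hL
  have hLcard : Nat.card L = 24480 := by
    rw [hL, Nat.card_congr (Subgroup.subgroupOfEquivOfLe (subK_le K)).toEquiv, (subK_spec K).2]
  have hcomap : (pointGrp K).comap (QuotientGroup.mk' _) = L := by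
    rw [pointGrp, Subgroup.comap_map_eq, QuotientGroup.ker_mk', sup_eq_left.2 (center_le_subK K)]
  have hidx : (pointGrp K).index = L.index := by
    rw [← hcomap, Subgroup.index_comap_of_surjective _ (QuotientGroup.mk'_surjective _)]
  have h1 := L.card_mul_index
  have h2 := (pointGrp K).card_mul_index
  rw [hidx, card_quotient] at h2
  rw [hLcard, card_grpG] at h1
  have : L.index = 6156 := by omega
  rw [this] at h2
  omega

theorem perm_real (K : Fld F) : ∃ H : Subgroup (Equiv.Perm (Fin 6156)), Cfsg.IsJ3 H ∧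
    MulAction.IsPretransitive H (Fin 6156) ∧
    Nat.card (MulAction.stabilizer H (0 : Fin 6156)) = 8160 := by
  haveI := quotient_simple K
  have hidx : (pointGrp K).index = 6156 := by
    have h := (pointGrp K).card_mul_index
    rw [card_pointGrp, card_quotient] at h
    omega
  obtain ⟨H, ⟨ι⟩, htr, hst⟩ := coset_real (pointGrp K) hidx (by norm_num)
  refine ⟨H, ⟨ι.symm.isSimpleGroup, ?_⟩, htr, hst.trans (card_pointGrp K)⟩
  rw [← Nat.card_congr ι.toEquiv, card_quotient]

end

end CfsgLib.J3
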