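import Cfsg.Agent.Lib.J3.Perm
import Cfsg.Agent.Lib.SL2Pres.SixteenHom
import Cfsg.Agent.Lib.Classical.SL2Sylow

/-!
`SL(2,16):2` inside the explicit third Janko group.
-/

set_option autoImplicit false
set_option maxRecDepth 20000

namespace CfsgLib.J3

open Cfsg.Spor Matrix CfsgLib.Golay
open scoped MatrixGroups

/-- The unipotent element. -/
def sixU : ℕ := 0xd87ac063d03a4942846598d560631af0f4dc7e64
/-- The torus element of order fifteen. -/
def sixH : ℕ := 0x2453f5a7eb4f7390741e5d1071dd8a8f353b7c0a0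
/-- The Weyl element. -/
def sixW : ℕ := 0x19d2b9132413b6857316128d64ea4646396636890

theorem six_pos : Bsgs.prodReps (ops K0) subLevels [2, 1, 20] = sixU ∧
    Bsgs.prodReps (ops K0) subLevels [67, 2, 2] = sixH ∧
    Bsgs.prodReps (ops K0) subLevels [67, 5, 30] = sixW := by
  decide +kernel

theorem six_rel : (mulM sixU sixU).beq oneM = true ∧ (powM sixH 15).beq oneM = true ∧
    (mulM (mulM sixH sixU) (powM sixH 14)).beq
      (mulM (mulM (mulM (powM sixH 4) sixU) (powM sixH 11)) sixU) = true ∧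
    (mulM sixU (mulM (mulM sixH sixU) (powM sixH 14))).beq
      (mulM (mulM (mulM sixH sixU) (powM sixH 14)) sixU) = true ∧
    (mulM (mulM sixW sixH) sixW).beq (powM sixH 14) = true ∧ (mulM sixW sixW).beq oneM = true ∧
    (powM (mulM sixU sixW) 3).beq oneM = true ∧
    ([sixU, powM sixH 3, powM sixH 5].all fun c => scalList.all fun s => !(c.beq s)) = true := by
  decide +kernel

variable {F : Type*} [Field F] (K : Fld F) [Finite F]

theorem six_spec {is : List ℕ} {c : ℕ} (h : Bsgs.prodReps (ops K0) subLevels is = c) :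
    okM c = true ∧ val K c ∈ subK K := by
  obtain ⟨h1, h2⟩ := (subK_spec K).1 is
  rw [prod_congr K K0, h] at h1 h2
  exact ⟨h1, h2⟩

/-- The simple quotient of the triple cover contains `SL(2,16)` inside the point group. -/
theorem exists_sl2_sixteen {E : Type*} [Field E] [Fintype E] (hE : Fintype.card E = 16) :
    ∃ φ : Matrix.SpecialLinearGroup (Fin 2) E →* grpG K ⧸ Subgroup.center (grpG K),
      Function.Injective φ ∧ ∀ x, φ x ∈ pointGrp K := by
  haveI := K.finite
  obtain ⟨pU, pH, pW⟩ := six_pos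
  obtain ⟨oU, mU⟩ := six_spec K pU
  obtain ⟨oH, mH⟩ := six_spec K pH
  obtain ⟨oW, mW⟩ := six_spec K pW
  let π := QuotientGroup.mk' (Subgroup.center (grpG K))
  let el : ∀ c : ℕ, val K c ∈ subK K → grpG K := fun c hc => ⟨val K c, subK_le K hc⟩
  set u := el sixU mU with hu
  set h := el sixH mH with hh
  set w := el sixW mW with hw
  obtain ⟨r1, r2, r3, r4, r5, r6, r7, r8⟩ := six_rel
  simp only [Nat.beq_eq] at r1 r2 r3 r4 r5 r6 r7
  have oP : ∀ n, okM (powM sixH n) = true ∧ val K (powM sixH n) = val K sixH ^ n := powM_spec K oH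
  have h15 : val K sixH ^ 15 = 1 := by rw [← (oP 15).2, r2, val_oneM]
  have inv14 : val K sixH ^ 14 = (val K sixH)⁻¹ :=
    eq_inv_of_mul_eq_one_left (by rw [← pow_succ, h15])
  have inv11 : val K sixH ^ 11 = (val K sixH ^ 4)⁻¹ :=
    eq_inv_of_mul_eq_one_left (by rw [← pow_add, h15])
  have oHU := ok_mulM oH oU K
  have oC := ok_mulM oHU (oP 14).1 K
  have vC : val K (mulM (mulM sixH sixU) (powM sixH 14)) = val K sixH * val K sixU * (val K sixH)⁻¹ := by
    rw [val_mulM K oHU (oP 14).1, val_mulM K oH oU, (oP 14).2, inv14]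
  have ne_one : ∀ (g : grpG K) (c : ℕ), okM c = true → (scalList.all fun s => !(c.beq s)) = true →
      g.1 = val K c → π g ≠ 1 := by
    intro g c hc hns hgv hπ
    have hmem : g ∈ Subgroup.center (grpG K) := (QuotientGroup.eq_one_iff g).1 hπ
    obtain ⟨s, hs, e⟩ := (center_eq K).1 hmem
    have hsok : okM s = true := List.all_eq_true.1 scalList_ok s hs
    have : c = s := toMat_inj K (ok_spec K hc).1 (ok_spec K hsok).1 (by
      rw [← val_coe K hc, ← val_coe K hsok, ← hgv, e])
    subst this
    simpa using List.all_eq_true.1 hns c hs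
  simp only [List.all_cons, List.all_nil, Bool.and_eq_true, and_true] at r8
  obtain ⟨n1, n3, n5⟩ := r8
  have R : CfsgLib.SL2Pres.Sixteen.Rel (π u) (π h) (π w) := by
    refine ⟨?_, ?_, ?_, ?_, ?_, ?_, ?_, ?_, ?_, ?_⟩
    · rw [← map_mul, show u * u = 1 from Subtype.ext (by
        show val K sixU * val K sixU = 1
        rw [← val_mulM K oU oU, r1, val_oneM]), map_one]
    · rw [← map_pow, show h ^ 15 = 1 from Subtype.ext (by simpa [hh, el] using h15), map_one]
    · simp only [← map_mul, ← map_pow, ← map_inv]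
      refine congrArg π (Subtype.ext ?_)
      show val K sixH * val K sixU * (val K sixH)⁻¹ =
        val K sixH ^ 4 * val K sixU * (val K sixH ^ 4)⁻¹ * val K sixU
      rw [← vC, r3, val_mulM K (ok_mulM (ok_mulM (oP 4).1 oU K) (oP 11).1 K) oU,
        val_mulM K (ok_mulM (oP 4).1 oU K) (oP 11).1, val_mulM K (oP 4).1 oU, (oP 4).2, (oP 11).2,
        inv11]
    · simp only [← map_mul, ← map_inv]
      refine congrArg π (Subtype.ext ?_)
      show val K sixU * (val K sixH * val K sixU * (val K sixH)⁻¹) =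
        val K sixH * val K sixU * (val K sixH)⁻¹ * val K sixU
      rw [← vC, ← val_mulM K oU oC, r4, val_mulM K oC oU]
    · simp only [← map_mul, ← map_inv]
      refine congrArg π (Subtype.ext ?_)
      show val K sixW * val K sixH * (val K sixW)⁻¹ = (val K sixH)⁻¹
      have w2 : val K sixW * val K sixW = 1 := by rw [← val_mulM K oW oW, r6, val_oneM]
      rw [inv_eq_of_mul_eq_one_right w2, ← val_mulM K oW oH, ← val_mulM K (ok_mulM oW oH K) oW, r5,
        (oP 14).2, inv14]
    · rw [← map_mul, show w * w = 1 from Subtype.ext (by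
        show val K sixW * val K sixW = 1
        rw [← val_mulM K oW oW, r6, val_oneM]), map_one]
    · rw [← map_mul, ← map_pow, show (u * w) ^ 3 = 1 from Subtype.ext (by
        show (val K sixU * val K sixW) ^ 3 = 1
        rw [← val_mulM K oU oW, ← (powM_spec K (ok_mulM oU oW K) 3).2, r7, val_oneM]), map_one]
    · exact ne_one u sixU oU n1 rfl
    · rw [← map_pow]
      exact ne_one _ _ (oP 3).1 n3 (by rw [(oP 3).2]; simp [hh, el])
    · rw [← map_pow]
      exact ne_one _ _ (oP 5).1 n5 (by rw [(oP 5).2]; simp [hh, el])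
  obtain ⟨φ, hφ, hle⟩ := R.exists_hom hE
  refine ⟨φ, hφ, fun x => ?_⟩
  have hsub : Subgroup.closure ({π u, π h, π w} : Set _) ≤ pointGrp K := by
    rw [Subgroup.closure_le]
    rintro y (rfl | rfl | rfl)
    exacts [⟨u, mU, rfl⟩, ⟨h, mH, rfl⟩, ⟨w, mW, rfl⟩]
  exact hsub (hle x)

/-- `SL(2,16):2` in a group isomorphic to the third Janko group. -/
theorem exists_sl2_sixteen_two {G : Type*} [Group G] (hG : Cfsg.Spor.IsoJ3 G) :
    ∃ (H : Subgroup G) (N : Subgroup H) (E : Type) (_ : Field E) (_ : Fintype E), N.Normal ∧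
      N.index = 2 ∧ Fintype.card E = 16 ∧ Nonempty (N ≃* Matrix.SpecialLinearGroup (Fin 2) E) := by
  obtain ⟨F, _, _, ω, hF, hω, ⟨e⟩⟩ := hG
  obtain ⟨K, rfl⟩ := exists_fld hF ω hω
  haveI := K.finite
  haveI : Fact (Nat.Prime 2) := ⟨Nat.prime_two⟩
  let E := GaloisField 2 4
  letI : Fintype E := Fintype.ofFinite E
  have hE : Fintype.card E = 16 := by
    rw [← Nat.card_eq_fintype_card, GaloisField.card 2 4 (by norm_num)]
    norm_num
  obtain ⟨φ, hφ, hmem⟩ := exists_sl2_sixteen K (E := E) hE
  have hq : Nonempty (G ≃* grpG K ⧸ Subgroup.center (grpG K)) := by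
    have key : ∀ S : Subgroup (GL F9 F), S = grpG K →
        Nonempty ((↥S ⧸ Subgroup.center S) ≃* ↥(grpG K) ⧸ Subgroup.center (grpG K)) := by
      rintro S rfl
      exact ⟨MulEquiv.refl _⟩
    obtain ⟨m⟩ := key _ (threeJ3_eq_grpG K)
    exact ⟨e.trans m⟩
  obtain ⟨e'⟩ := hq
  let H : Subgroup G := (pointGrp K).comap e'.toMonoidHom
  let φ' : Matrix.SpecialLinearGroup (Fin 2) E →* H :=
    (e'.symm.toMonoidHom.comp φ).codRestrict H fun x => by
      show e' (e'.symm (φ x)) ∈ pointGrp K
      rw [e'.apply_symm_apply]; exact hmem x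
  have hφ' : Function.Injective φ' := fun a b hab =>
    hφ (e'.symm.injective (congrArg Subtype.val hab))
  have hH : Nat.card H = 8160 := by
    rw [← card_pointGrp K]
    exact Nat.card_congr
      { toFun := fun x => ⟨e' x.1, x.2⟩
        invFun := fun y => ⟨e'.symm y.1, by
          show e' (e'.symm y.1) ∈ pointGrp K
          rw [e'.apply_symm_apply]; exact y.2⟩
        left_inv := fun x => Subtype.ext (e'.symm_apply_apply _)
        right_inv := fun y => Subtype.ext (e'.apply_symm_apply _) }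
  have hN : Nat.card φ'.range = 4080 := by
    rw [Nat.card_congr (MonoidHom.ofInjective hφ').symm.toEquiv,
      CfsgLib.Classical.card_SL_two hE]
  have hidx : φ'.range.index = 2 := by
    have := φ'.range.card_mul_index
    rw [hN, hH] at this
    omega
  exact ⟨H, φ'.range, E, inferInstance, inferInstance, Subgroup.normal_of_index_eq_two hidx,
    hidx, hE, ⟨(MonoidHom.ofInjective hφ').symm⟩⟩

end CfsgLib.J3
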