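import Cfsg.Agent.Lib.J3.Cent
import Cfsg.Agent.Lib.J3.Simple
import Cfsg.Prelude.Def_Spor_J3

/-!
Self-centralizing Sylow subgroups of orders 17 and 19 in the third Janko group.
-/

set_option autoImplicit false
set_option linter.style.haveILetI false
set_option maxRecDepth 20000

namespace CfsgLib.J3

open Subgroup CfsgLib.Golay Cfsg.Spor

theorem exists_iso_model {G : Type*} [Group G] (hG : Cfsg.Spor.IsoJ3 G) :
    ∃ (F : Type) (_ : Field F) (K : Fld F), Nonempty (G ≃* grpG K ⧸ center (grpG K)) := by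
  obtain ⟨F, _, _, ω, hF, hω, ⟨e⟩⟩ := hG
  obtain ⟨K, rfl⟩ := exists_fld hF ω hω
  haveI := K.finite
  have key : ∀ S : Subgroup (GL F9 F), S = grpG K →
      Nonempty ((↥S ⧸ center S) ≃* ↥(grpG K) ⧸ center (grpG K)) := by
    rintro S rfl
    exact ⟨MulEquiv.refl _⟩
  obtain ⟨m⟩ := key _ (threeJ3_eq_grpG K)
  exact ⟨F, inferInstance, K, ⟨e.trans m⟩⟩

theorem card_of_iso {G : Type*} [Group G] (hG : Cfsg.Spor.IsoJ3 G) : Nat.card G = 50232960 := by
  obtain ⟨F, _, K, ⟨e⟩⟩ := exists_iso_model hG
  haveI := K.finite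
  rw [Nat.card_congr e.toEquiv, card_quotient K]

/-- An element of order nineteen which centralizes only its powers. -/
theorem exists_cent19 {G : Type*} [Group G] (hG : Cfsg.Spor.IsoJ3 G) :
    ∃ g : G, orderOf g = 19 ∧ ∀ y : G, Commute y g → y ∈ zpowers g := by
  obtain ⟨F, _, K, ⟨e⟩⟩ := exists_iso_model hG
  haveI := K.finite
  let x : grpG K := ⟨xElt K, xElt_mem K⟩
  let π := QuotientGroup.mk' (center (grpG K))
  haveI : Fact (Nat.Prime 19) := ⟨by norm_num⟩
  have hx19 : x ^ 19 = 1 := Subtype.ext (xElt_pow K)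
  have hx1 : x ≠ 1 := by
    intro h
    have h' : val K elt19 = val K oneM := by
      rw [val_oneM]
      exact congrArg Subtype.val h
    have h1 := elt19_ok.1
    have h2 : okM oneM = true := by decide +kernel
    exact elt19_ne (toMat_inj K (ok_spec K h1).1 (ok_spec K h2).1 (by
      rw [← val_coe K h1, ← val_coe K h2, h']))
  have hz3 : ∀ z ∈ center (grpG K), z ^ 19 = 1 → z = 1 := by
    intro z hz h19
    have h3 : (⟨z, hz⟩ : center (grpG K)) ^ 3 = 1 := by
      have h := pow_card_eq_one' (x := (⟨z, hz⟩ : center (grpG K)))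
      rwa [card_center K] at h
    have h3' : z ^ 3 = 1 := congrArg Subtype.val h3
    have := pow_gcd_eq_one.2 ⟨h19, h3'⟩
    simpa using this
  refine ⟨e.symm (π x), ?_, ?_⟩
  · rw [MulEquiv.orderOf_eq]
    refine orderOf_eq_prime (by rw [← map_pow, hx19, map_one]) fun h => ?_
    exact hx1 (hz3 x ((QuotientGroup.eq_one_iff x).1 h) hx19)
  · intro y hy
    obtain ⟨g, hg⟩ := QuotientGroup.mk'_surjective (center (grpG K)) (e y)
    have hq : Commute (π g) (π x) := by
      have := hy.map e.toMonoidHom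
      simp only [MulEquiv.coe_toMonoidHom, e.apply_symm_apply] at this
      rwa [← hg] at this
    set z := x⁻¹ * (g * x * g⁻¹) with hzdef
    have hz : z ∈ center (grpG K) := by
      refine (QuotientGroup.eq_one_iff z).1 ?_
      show π z = 1
      rw [hzdef, map_mul, map_mul, map_mul, map_inv, map_inv, hq.eq]
      group
    have hz1 : z = 1 := by
      refine hz3 z hz ?_
      have e1 : g * x * g⁻¹ = x * z := by rw [hzdef]; group
      have e2 : (g * x * g⁻¹) ^ 19 = 1 := by rw [conj_pow, hx19]; group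
      rw [e1, (show Commute x z from (mem_center_iff.1 hz x)).mul_pow, hx19, one_mul] at e2
      exact e2
    have hgx : g.1 * xElt K = xElt K * g.1 := by
      have : g * x = x * g := by
        rw [hzdef, inv_mul_eq_one] at hz1
        calc g * x = g * x * g⁻¹ * g := by group
          _ = x * g := by rw [← hz1]
      exact congrArg Subtype.val this
    obtain ⟨s, hs, j, -, hj⟩ := cent_elt19 K g.2 hgx
    have hsc : (⟨val K s, scal_mem K hs⟩ : grpG K) ∈ center (grpG K) :=
      mem_center_iff.2 fun a => Subtype.ext (scal_central K hs a.1)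
    have hgj : g = ⟨val K s, scal_mem K hs⟩ * x ^ j := Subtype.ext (by simpa [x] using hj)
    rw [← e.symm_apply_apply y, ← hg, hgj]
    simp only [map_mul, map_pow]
    rw [show (π ⟨val K s, scal_mem K hs⟩) = 1 from (QuotientGroup.eq_one_iff _).2 hsc]
    rw [map_one, one_mul]
    exact npow_mem_zpowers _ _

/-! ### Counting -/

theorem sylow_card_prime {G : Type*} [Group G] [Finite G] {p : ℕ} [Fact p.Prime] (X : Sylow p G)
    (h1 : p ∣ Nat.card G) (h2 : ¬ p ^ 2 ∣ Nat.card G) : Nat.card (X : Subgroup G) = p := by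
  obtain ⟨n, hn⟩ := IsPGroup.iff_card.1 X.2
  have hd : p ^ n ∣ Nat.card G := hn ▸ Subgroup.card_subgroup_dvd_card _
  have hne : n ≠ 0 := by
    intro h0
    have := X.pow_dvd_card_of_pow_dvd_card (n := 1) (by simpa using h1)
    rw [pow_one, hn, h0, pow_zero] at this
    exact (Fact.out : p.Prime).not_dvd_one this
  have : n ≤ 1 := by
    by_contra hh
    exact h2 ((pow_dvd_pow p (show 2 ≤ n by omega)).trans hd)
  rw [hn, show n = 1 by omega, pow_one]

/-- The automizer of a Sylow subgroup of prime order. -/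
theorem automizer_facts {G : Type*} [Group G] [Finite G] {p : ℕ} [Fact p.Prime] (X : Sylow p G)
    (hX : Nat.card (X : Subgroup G) = p) :
    ∃ e, e ∣ p - 1 ∧
      Nat.card (normalizer ((X : Subgroup G) : Set G)) =
        Nat.card (centralizer ((X : Subgroup G) : Set G)) * e ∧
      (∃ g : normalizer ((X : Subgroup G) : Set G), e ∣ orderOf g) ∧
      (centralizer ((X : Subgroup G) : Set G) = X →
        ∃ h : ((X : Subgroup G).subgroupOf (normalizer ((X : Subgroup G) : Set G))).Normal,
          IsCyclic (↥(normalizer ((X : Subgroup G) : Set G)) ⧸ (X : Subgroup G).subgroupOf _) ∧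
          Nat.card (↥(normalizer ((X : Subgroup G) : Set G)) ⧸ (X : Subgroup G).subgroupOf _) = e) := by
  classical
  haveI : IsCyclic (X : Subgroup G) := isCyclic_of_prime_card hX
  let f := (X : Subgroup G).normalizerMonoidHom
  haveI hcyc : IsCyclic (MulAut (X : Subgroup G)) := by
    haveI : IsCyclic (ZMod (Nat.card (X : Subgroup G)))ˣ := by
      rw [hX]; exact ZMod.isCyclic_units_prime Fact.out
    exact isCyclic_of_surjective (IsCyclic.mulAutMulEquiv (X : Subgroup G)).symm.toMonoidHom (MulEquiv.surjective _)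
  refine ⟨Nat.card f.range, ?_, ?_, ?_, ?_⟩
  · refine (Subgroup.card_subgroup_dvd_card _).trans (dvd_of_eq ?_)
    rw [Nat.card_congr (IsCyclic.mulAutMulEquiv (X : Subgroup G)).toEquiv, hX,
      Nat.card_eq_fintype_card, ZMod.card_units_eq_totient, Nat.totient_prime Fact.out]
  · have h := f.ker.card_mul_index
    rw [Subgroup.index_ker, normalizerMonoidHom_ker,
      Nat.card_congr (Subgroup.subgroupOfEquivOfLe
        (centralizer_le_normalizer _)).toEquiv] at h
    exact h.symm
  · obtain ⟨⟨a, g, rfl⟩, ha⟩ := IsCyclic.exists_generator (α := f.range)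
    refine ⟨g, ?_⟩
    rw [← orderOf_eq_card_of_forall_mem_zpowers ha, ← Subgroup.orderOf_coe]
    exact orderOf_map_dvd f g
  · intro hC
    have hn : ((X : Subgroup G).subgroupOf (normalizer ((X : Subgroup G) : Set G))).Normal :=
      Subgroup.normal_in_normalizer
    refine ⟨hn, ?_, ?_⟩
    · have hker : f.ker = (X : Subgroup G).subgroupOf _ := by
        rw [normalizerMonoidHom_ker, hC]
      have e := (QuotientGroup.quotientMulEquivOfEq hker).symm.trans (QuotientGroup.quotientKerEquivRange f)
      exact isCyclic_of_surjective e.symm.toMonoidHom e.symm.surjective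
    · rw [← Subgroup.index_eq_card, ← Subgroup.index_ker, normalizerMonoidHom_ker, hC]

theorem count_mod {G : Type*} [Group G] [Finite G] {p : ℕ} [Fact p.Prime] (X : Sylow p G)
    {m : ℕ} (hm : Nat.card (normalizer ((X : Subgroup G) : Set G)) = m) :
    ∃ n, n % p = 1 ∧ n * m = Nat.card G := by
  refine ⟨(normalizer ((X : Subgroup G) : Set G)).index, ?_, ?_⟩
  · have := card_sylow_modEq_one p G
    rw [Nat.ModEq, Nat.mod_eq_of_lt (Fact.out : p.Prime).one_lt] at this
    exact (congrArg (· % p) (Sylow.card_eq_index_normalizer X).symm).trans this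
  · rw [← hm, mul_comm, Subgroup.card_mul_index]

theorem sylow_nineteen_seventeen {G : Type*} [Group G] [Finite G] [IsSimpleGroup G]
    (hG : Nat.card G = 50232960) (h16 : ∀ g : G, orderOf g ≠ 16)
    (hinv : ∀ u : G, orderOf u = 2 → Nat.card (centralizer ({u} : Set G)) = 1920)
    (h19 : ∃ g : G, orderOf g = 19 ∧ ∀ y : G, Commute y g → y ∈ zpowers g) :
    (∀ X : Sylow 19 G, centralizer ((X : Subgroup G) : Set G) = X ∧
        ∃ h : ((X : Subgroup G).subgroupOf (normalizer ((X : Subgroup G) : Set G))).Normal,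
          IsCyclic (↥(normalizer ((X : Subgroup G) : Set G)) ⧸ (X : Subgroup G).subgroupOf _) ∧
          Nat.card (↥(normalizer ((X : Subgroup G) : Set G)) ⧸ (X : Subgroup G).subgroupOf _) = 9) ∧
    (∀ Y : Sylow 17 G, centralizer ((Y : Subgroup G) : Set G) = Y ∧
        ∃ h : ((Y : Subgroup G).subgroupOf (normalizer ((Y : Subgroup G) : Set G))).Normal,
          IsCyclic (↥(normalizer ((Y : Subgroup G) : Set G)) ⧸ (Y : Subgroup G).subgroupOf _) ∧
          Nat.card (↥(normalizer ((Y : Subgroup G) : Set G)) ⧸ (Y : Subgroup G).subgroupOf _) = 8) := by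
  haveI : Fact (Nat.Prime 19) := ⟨by norm_num⟩
  haveI : Fact (Nat.Prime 17) := ⟨by norm_num⟩
  obtain ⟨g, hg, hgc⟩ := h19
  have hcard : ∀ X : Sylow 19 G, Nat.card (X : Subgroup G) = 19 := fun X =>
    sylow_card_prime X (by rw [hG]; norm_num) (by rw [hG]; norm_num)
  have hgen : ∀ X : Sylow 19 G, ∃ x : G, orderOf x = 19 ∧ (X : Subgroup G) = zpowers x ∧
      ∀ y : G, Commute y x → y ∈ zpowers x := by
    intro X
    obtain ⟨X0, hX0⟩ := (IsPGroup.of_card (n := 1) (by rw [Nat.card_zpowers, hg, pow_one]) :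
      IsPGroup 19 (zpowers g)).exists_le_sylow
    obtain ⟨a, ha⟩ := MulAction.exists_smul_eq G X0 X
    let c := MulAut.conj a
    refine ⟨c g, by rw [MulEquiv.orderOf_eq, hg], ?_, ?_⟩
    · have hmem : c g ∈ (X : Subgroup G) := by
        rw [← ha, Sylow.coe_subgroup_smul]
        exact ⟨g, hX0 (mem_zpowers g), rfl⟩
      refine (Subgroup.eq_of_le_of_card_ge (zpowers_le.2 hmem) ?_).symm
      rw [hcard, Nat.card_zpowers, MulEquiv.orderOf_eq, hg]
    · intro y hy
      have := hgc (c.symm y) (by simpa using hy.map c.symm.toMonoidHom)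
      obtain ⟨k, hk⟩ := mem_zpowers_iff.1 this
      exact mem_zpowers_iff.2 ⟨k, by rw [← map_zpow, hk, MulEquiv.apply_symm_apply]⟩
  constructor
  · intro X
    obtain ⟨x, hx, hXx, hxc⟩ := hgen X
    have hC : centralizer ((X : Subgroup G) : Set G) = X := by
      refine le_antisymm (fun y hy => ?_) ?_
      · rw [hXx]
        exact hxc y (mem_centralizer_iff.1 hy x (by rw [hXx]; exact mem_zpowers x)).symm
      · intro y hy
        refine mem_centralizer_iff.2 fun z hz => ?_
        rw [hXx] at hy hz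
        obtain ⟨i, rfl⟩ := mem_zpowers_iff.1 hy
        obtain ⟨j, rfl⟩ := mem_zpowers_iff.1 hz
        exact (Commute.zpow_zpow_self x j i).eq
    obtain ⟨e, he, hNc, -, hq⟩ := automizer_facts X (hcard X)
    rw [hC, hcard] at hNc
    obtain ⟨n, hn, hnm⟩ := count_mod X hNc
    rw [hG] at hnm
    obtain ⟨h, hcy, hce⟩ := hq hC
    refine ⟨hC, h, hcy, hce.trans ?_⟩
    have he' : e ∈ Nat.divisors 18 := Nat.mem_divisors.2 ⟨he, by norm_num⟩
    rw [show Nat.divisors 18 = {1, 2, 3, 6, 9, 18} by decide] at he'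
    simp only [Finset.mem_insert, Finset.mem_singleton] at he'
    rcases he' with rfl | rfl | rfl | rfl | rfl | rfl <;> omega
  · intro Y
    have hY : Nat.card (Y : Subgroup G) = 17 :=
      sylow_card_prime Y (by rw [hG]; norm_num) (by rw [hG]; norm_num)
    set C := centralizer ((Y : Subgroup G) : Set G) with hCdef
    haveI : IsCyclic (Y : Subgroup G) := isCyclic_of_prime_card hY
    obtain ⟨⟨y, hyY⟩, hygen⟩ := IsCyclic.exists_generator (α := (Y : Subgroup G))
    have hy : orderOf y = 17 := by
      rw [← hY, ← orderOf_eq_card_of_forall_mem_zpowers hygen, Subgroup.orderOf_mk]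
    have hYC : (Y : Subgroup G) ≤ C := by
      intro z hz
      refine mem_centralizer_iff.2 fun w hw => ?_
      letI := IsCyclic.commGroup (α := (Y : Subgroup G))
      exact congrArg Subtype.val (mul_comm (⟨w, hw⟩ : (Y : Subgroup G)) ⟨z, hz⟩)
    have hCy : ∀ z ∈ C, Commute z y := fun z hz => (mem_centralizer_iff.1 hz y hyY).symm
    have hodd : ¬ 2 ∣ Nat.card C := by
      intro h2
      obtain ⟨⟨u, huC⟩, hu⟩ := exists_prime_orderOf_dvd_card' 2 h2
      rw [Subgroup.orderOf_mk] at hu
      have h17 : orderOf y ∣ 1920 := by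
        rw [← hinv u hu]
        exact Subgroup.orderOf_dvd_natCard _ (mem_centralizer_singleton_iff.2 (hCy u huC).symm)
      rw [hy] at h17
      norm_num at h17
    have hno19 : ¬ 19 ∣ Nat.card C := by
      intro h2
      obtain ⟨⟨x, hxC⟩, hx⟩ := exists_prime_orderOf_dvd_card' 19 h2
      rw [Subgroup.orderOf_mk] at hx
      obtain ⟨X, hX⟩ := (IsPGroup.of_card (n := 1) (by rw [Nat.card_zpowers, hx, pow_one]) :
        IsPGroup 19 (zpowers x)).exists_le_sylow
      obtain ⟨x', hx', hXx, hxc⟩ := hgen X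
      have heq : (X : Subgroup G) = zpowers x := (Subgroup.eq_of_le_of_card_ge hX (by
        rw [hcard, Nat.card_zpowers, hx])).symm
      have hmem : x' ∈ zpowers x := by rw [← heq, hXx]; exact mem_zpowers x'
      obtain ⟨k, hk⟩ := mem_zpowers_iff.1 hmem
      have h17 : orderOf y ∣ orderOf x' := orderOf_dvd_of_mem_zpowers (hxc y (by
        rw [← hk]; exact (hCy x hxC).symm.zpow_right k))
      rw [hy, hx'] at h17
      norm_num at h17
    obtain ⟨c, hc⟩ : 17 ∣ Nat.card C := hY ▸ Subgroup.card_dvd_of_le hYC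
    have hc' : c ∣ 1215 := by
      have h1 : Nat.card C ∣ 17 * 1215 := by
        refine Nat.Coprime.dvd_of_dvd_mul_left (m := 2432) ?_ ?_
        · rw [show 2432 = 2 ^ 7 * 19 by norm_num]
          exact Nat.Coprime.mul_right (Nat.Coprime.pow_right 7
            ((Nat.prime_two.coprime_iff_not_dvd.2 hodd).symm))
            ((Nat.Prime.coprime_iff_not_dvd (by norm_num)).2 hno19).symm
        · exact (Subgroup.card_subgroup_dvd_card C).trans (dvd_of_eq (by rw [hG]))
      rw [hc] at h1
      exact Nat.dvd_of_mul_dvd_mul_left (by norm_num) h1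
    obtain ⟨e, he, hNc, ⟨a, hae⟩, hq⟩ := automizer_facts Y hY
    rw [← hCdef, hc] at hNc
    obtain ⟨n, hn, hnm⟩ := count_mod Y hNc
    rw [hG] at hnm
    have he16 : e ≠ 16 := by
      intro h
      rw [h] at hae
      refine h16 ((a ^ (orderOf a / 16) : normalizer ((Y : Subgroup G) : Set G)) : G) ?_
      rw [Subgroup.orderOf_coe]
      exact orderOf_pow_orderOf_div (orderOf_pos _).ne' hae
    have hburn : e ≠ 1 := by
      intro h
      rw [h, mul_one, ← hc] at hNc
      have hle : normalizer ((Y : Subgroup G) : Set G) ≤ centralizer ((Y : Subgroup G) : Set G) :=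
        (Subgroup.eq_of_le_of_card_ge (centralizer_le_normalizer _) hNc.le).ge
      have hcompl := MonoidHom.ker_transferSylow_isComplement' Y hle
      rcases Subgroup.Normal.eq_bot_or_eq_top
        (inferInstance : (MonoidHom.transferSylow Y hle).ker.Normal) with h' | h'
      · have := hcompl.card_mul
        rw [h', Subgroup.card_bot, one_mul, hY, hG] at this
        norm_num at this
      · have := hcompl.card_mul
        rw [h', Subgroup.card_top, hY, hG] at this
        norm_num at this
    have hcd : c ∈ Nat.divisors 1215 := Nat.mem_divisors.2 ⟨hc', by norm_num⟩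
    rw [show Nat.divisors 1215 = {1, 3, 5, 9, 15, 27, 45, 81, 135, 243, 405, 1215} by decide +kernel] at hcd
    simp only [Finset.mem_insert, Finset.mem_singleton] at hcd
    have he' : e ∈ Nat.divisors 16 := Nat.mem_divisors.2 ⟨he, by norm_num⟩
    rw [show Nat.divisors 16 = {1, 2, 4, 8, 16} by decide] at he'
    simp only [Finset.mem_insert, Finset.mem_singleton] at he'
    have hce : c = 1 ∧ e = 8 := by
      rcases he' with rfl | rfl | rfl | rfl | rfl <;>
        rcases hcd with rfl | rfl | rfl | rfl | rfl | rfl | rfl | rfl | rfl | rfl | rfl | rfl <;>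
        omega
    have hC : centralizer ((Y : Subgroup G) : Set G) = Y := by
      refine (Subgroup.eq_of_le_of_card_ge hYC ?_).symm
      rw [hc, hce.1, mul_one, hY]
    obtain ⟨h, hcy, hcard'⟩ := hq hC
    exact ⟨hC, h, hcy, hcard'.trans hce.2⟩

end CfsgLib.J3
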