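import Cfsg.Agent.Lib.J3.Simple
import Cfsg.Prelude.Def_Classical
import Cfsg.Prelude.Def_Sporadic

/-!
The triple cover inside the special unitary group.
-/

set_option autoImplicit false

namespace CfsgLib.J3

open Cfsg.Spor Matrix CfsgLib.Golay
open scoped MatrixGroups

variable {F : Type} [Field F] [Finite F] (K : Fld F)

/-- The centre of an isomorphic group. -/
theorem map_center_equiv {A B : Type*} [Group A] [Group B] (e : A ≃* B) :
    (Subgroup.center A).map (e : A →* B) = Subgroup.center B := by
  ext b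
  simp only [Subgroup.mem_map, Subgroup.mem_center_iff]
  constructor
  · rintro ⟨a, ha, rfl⟩ h
    have := congrArg e (ha (e.symm h))
    simpa using this
  · intro hb
    refine ⟨e.symm b, fun a => e.injective ?_, e.apply_symm_apply b⟩
    simpa using hb (e a)

/-- The central quotient is carried along an isomorphism. -/
noncomputable def quotCenterEquiv {A B : Type*} [Group A] [Group B] (e : A ≃* B) :
    A ⧸ Subgroup.center A ≃* B ⧸ Subgroup.center B :=
  QuotientGroup.congr _ _ e (map_center_equiv e)

theorem conjT_mul_self {g : GL F9 F} (hg : g ∈ grpG K) : conjT K g.val * g.val = 1 := by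
  obtain ⟨A, hA, rfl⟩ := exists_code K hg
  rw [val_coe K hA]
  exact mul_eq_one_comm.1 (ok_spec K hA).2

/-- The matrices renumbered. -/
def toSL : grpG K →* Matrix.SpecialLinearGroup (Fin 9) F where
  toFun g := ⟨Matrix.reindexAlgEquiv F F e9 g.val.val, by
    rw [Matrix.det_reindexAlgEquiv]; exact det_eq_one K g.2⟩
  map_one' := Subtype.ext (by simp)
  map_mul' a b := Subtype.ext (by
    show Matrix.reindexAlgEquiv F F e9 (a.val.val * b.val.val) = _
    rw [map_mul]
    rfl)

theorem toSL_mem (g : grpG K) : toSL K g ∈ Cfsg.SU 9 F 2 := by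
  intro u v
  have h := conjT_mul_self K g.2
  set M : Matrix (Fin 9) (Fin 9) F := Matrix.reindexAlgEquiv F F e9 g.val.val with hM
  have h' : (M.map (sq K))ᵀ * M = 1 := by
    have e := congrArg (Matrix.reindexAlgEquiv F F e9) h
    rw [map_mul, map_one] at e
    exact e
  have h2 : Mᵀ * M.map (sq K) = 1 := by
    have := congrArg Matrix.transpose h'
    rwa [transpose_mul, transpose_transpose, transpose_one] at this
  have hs : ∀ x : F, x ^ 2 = sq K x := fun x => pow_two x
  show Cfsg.hermForm 9 F 2 (M *ᵥ u) (M *ᵥ v) = Cfsg.hermForm 9 F 2 u v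
  have key : ∀ a b : Fin 9 → F, Cfsg.hermForm 9 F 2 a b = a ⬝ᵥ (sq K ∘ b) := fun a b => by
    simp [Cfsg.hermForm, dotProduct, hs]
  have hsv : sq K ∘ (M *ᵥ v) = M.map (sq K) *ᵥ (sq K ∘ v) := by
    ext i
    exact RingHom.map_mulVec (sq K) M v i
  rw [key, key, hsv, dotProduct_mulVec, ← Matrix.mulVec_transpose, Matrix.mulVec_mulVec]
  have h3 : (M.map (sq K))ᵀ * M = 1 := h'
  rw [h3, Matrix.one_mulVec]

/-- The triple cover inside the special unitary group. -/
def toSU : grpG K →* Cfsg.SU 9 F 2 := (toSL K).codRestrict _ (toSL_mem K)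

theorem toSU_inj : Function.Injective (toSU K) := by
  intro a b h
  have h' : Matrix.reindexAlgEquiv F F e9 a.val.val = Matrix.reindexAlgEquiv F F e9 b.val.val :=
    congrArg (fun z : Cfsg.SU 9 F 2 => (z.val.val : Matrix (Fin 9) (Fin 9) F)) h
  exact Subtype.ext (Units.ext ((Matrix.reindexAlgEquiv F F e9).injective h'))

theorem unitary_real (K : Fld F) : ∃ H : Subgroup (Cfsg.SU 9 F 2),
    Nat.card (Subgroup.center H) = 3 ∧ Cfsg.IsJ3 (H ⧸ Subgroup.center H) := by
  have e : grpG K ≃* (toSU K).range := MonoidHom.ofInjective (toSU_inj K)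
  refine ⟨(toSU K).range, ?_, ?_, ?_⟩
  · rw [← map_center_equiv e, Subgroup.card_map_of_injective e.injective, card_center]
  · haveI := quotient_simple K
    exact (quotCenterEquiv e).symm.isSimpleGroup
  · rw [← Nat.card_congr (quotCenterEquiv e).toEquiv, card_quotient]

end CfsgLib.J3
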